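import Cfsg.Agent.Lib.SDKeystone.Budget.Minus.HValue
import Cfsg.Agent.Lib.Char.Perm
import Mathlib.GroupTheory.GroupAction.Quotient

/-!
# The fixed points of `t` in a transitive action of `C₀ / O`, `δ = -1`, `n = 1` (helper87)

`S` a proper subgroup containing `z`, `H ⧸ S` the points.

* `fix_le` : `(q - 1) fix(t) ≤ (q - 1) + 2 (|H : S| - 1)`;
* `fix_lt` : for `q ≥ 9`, `(q - 1) fix(t) < 2 |H : S|`;
* `five_le_index` : if `t` fixes a point there are at least five;
* `torus_count` : the `y` with `y⁻¹ T y ≤ S` are few.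
-/

set_option autoImplicit false
set_option linter.unusedSectionVars false
set_option linter.style.haveILetI false
set_option maxHeartbeats 1000000

open scoped ComplexConjugate

namespace Cfsg.Agent.SDKeystone.Minus

open Subgroup Cfsg Cfsg.Agent.Char Cfsg.Agent.InvolChar

variable {H : Type*} [Group H] [Fintype H] {X : Type*} [MulAction H X] {t z : H} {Z : Subgroup H}
  {q o : ℕ}

/-- The fixed points on the cosets. -/
noncomputable def fix (S : Subgroup H) (g : H) : ℕ := Nat.card (MulAction.fixedBy (H ⧸ S) g)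

open scoped Classical in
theorem count_eq (S : Subgroup H) (g : H) :
    (Finset.univ.filter fun y : H => y⁻¹ * g * y ∈ S).card = fix S g * Nat.card S := by
  have h := indFun_one_eq_fixedPoints S g
  have hsum : ∑ x : H, extendByZero S (1 : S → ℂ) (x⁻¹ * g * x) =
      ((Finset.univ.filter fun y : H => y⁻¹ * g * y ∈ S).card : ℂ) := by
    simp [extendByZero_eq, Finset.sum_boole]
  rw [indFun, hsum, inv_mul_eq_iff_eq_mul₀ (Nat.cast_ne_zero.2 Nat.card_pos.ne')] at h
  have e : ((Finset.univ.filter fun y : H => y⁻¹ * g * y ∈ S).card : ℂ) =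
      ((fix S g * Nat.card S : ℕ) : ℂ) := by rw [h, fix]; push_cast; ring
  exact_mod_cast e

theorem fix_mono (S : Subgroup H) {g g' : H} (h : g' ∈ zpowers g) : fix S g ≤ fix S g' := by
  classical
  refine Nat.card_mono (Set.toFinite _) fun p hp => ?_
  have hst : g ∈ MulAction.stabilizer H p := hp
  exact (zpowers_le.2 hst) h

theorem fix_one (S : Subgroup H) : fix S 1 = S.index := by
  rw [fix, Subgroup.index_eq_card]
  exact Nat.card_congr (Equiv.subtypeUnivEquiv fun p => one_smul H p)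

variable (D : Data X t z Z q o)
include D

namespace Data

open scoped Classical in
/-- The constituents of the permutation character. -/
theorem perm_sum (hS : SmallH t Z q) (S : Subgroup H) (hz : z ∈ S) :
    ∃ (s : Finset (IrrCharacter H)) (c : IrrCharacter H → ℕ),
      (∀ ρ ∈ s, c ρ ≠ 0 ∧ (∀ x, (ρ : H → ℂ) (z * x) = (ρ : H → ℂ) x) ∧ (ρ : H → ℂ) ≠ 1) ∧
      (∀ g, (fix S g : ℂ) = 1 + ∑ ρ ∈ s, (c ρ : ℂ) * (ρ : H → ℂ) g) := by
  letI := Fintype.ofFinite (IrrCharacter H)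
  have hπ := isCharacter_fixedPoints (G := H) (H ⧸ S)
  obtain ⟨c, hc, hin⟩ := IsCharacter.decompose hπ
  have h1 : c ⟨_, isIrrCharacter_one⟩ = 1 := by
    have h := classInner_fixedPoints_one (G := H) (H ⧸ S)
    rw [hin ⟨_, isIrrCharacter_one⟩] at h
    haveI : Subsingleton (MulAction.orbitRel.Quotient H (H ⧸ S)) :=
      (MulAction.pretransitive_iff_subsingleton_quotient H (H ⧸ S)).1 inferInstance
    haveI : Nonempty (MulAction.orbitRel.Quotient H (H ⧸ S)) := ⟨Quotient.mk'' ((1 : H) : H ⧸ S)⟩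
    rw [Nat.card_unique] at h
    exact_mod_cast h
  refine ⟨(Finset.univ.erase ⟨_, isIrrCharacter_one⟩).filter fun ρ => c ρ ≠ 0, c, fun ρ hρ => ?_, fun g => ?_⟩
  · simp only [Finset.mem_filter, Finset.mem_erase] at hρ
    refine ⟨hρ.2, ?_, fun e => hρ.1.1 (Subtype.ext e)⟩
    refine (Budget.apply_central_inv ρ.2 D.z_sq fun x => (D.z_comm x).symm).resolve_right fun hodd => hρ.2 ?_
    have hinv : ∀ x, Nat.card (MulAction.fixedBy (H ⧸ S) (z * x)) = Nat.card (MulAction.fixedBy (H ⧸ S) x) := by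
      have hzp : ∀ p : H ⧸ S, z • p = p := fun p => by
        obtain ⟨y, rfl⟩ := QuotientGroup.mk_surjective p
        rw [MulAction.Quotient.smul_coe, QuotientGroup.eq, smul_eq_mul]
        have e : (z * y)⁻¹ * y = z⁻¹ := by rw [D.z_comm y]; group
        rw [e]
        exact S.inv_mem hz
      intro x
      refine Nat.card_congr (Equiv.subtypeEquivRight fun p => ?_)
      simp only [MulAction.mem_fixedBy, mul_smul, hzp]
    have e := hin ρ
    simp only [classInner] at e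
    rw [← Equiv.sum_comp (Equiv.mulLeft z)] at e
    simp only [Equiv.coe_mulLeft, hinv, hodd, map_neg, mul_neg, Finset.sum_neg_distrib] at e
    have e' := hin ρ
    simp only [classInner] at e'
    rw [e'] at e
    have h2 : (c ρ : ℂ) = 0 := by linear_combination -(1 / 2 : ℂ) * e
    exact_mod_cast h2
  · have h := congrFun hc g
    simp only [Finset.sum_apply, Pi.smul_apply, smul_eq_mul] at h
    rw [fix, h, ← Finset.add_sum_erase _ _ (Finset.mem_univ (⟨_, isIrrCharacter_one⟩ : IrrCharacter H)), h1,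
      Nat.cast_one, one_mul]
    refine congrArg₂ (· + ·) rfl (Finset.sum_subset (Finset.filter_subset _ _) fun ρ hρ hn => ?_).symm
    rw [show c ρ = 0 by simpa [hρ] using hn, Nat.cast_zero, zero_mul]

open scoped Classical in
/-- The integral form of `perm_sum`. -/
theorem perm_values (hS : SmallH t Z q) (S : Subgroup H) (hz : z ∈ S) :
    ∃ (s : Finset (IrrCharacter H)) (c : IrrCharacter H → ℕ) (d : IrrCharacter H → ℕ) (N : IrrCharacter H → ℤ),
      (∀ ρ ∈ s, c ρ ≠ 0 ∧ EvenValue D (ρ : H → ℂ) (d ρ) (N ρ)) ∧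
      (∀ g, (fix S g : ℂ) = 1 + ∑ ρ ∈ s, (c ρ : ℂ) * (ρ : H → ℂ) g) ∧
      (S.index : ℤ) = 1 + ∑ ρ ∈ s, (c ρ : ℤ) * d ρ ∧ (fix S t : ℤ) = 1 + ∑ ρ ∈ s, (c ρ : ℤ) * N ρ := by
  letI := Fintype.ofFinite (centralizer ({t} : Set H))
  obtain ⟨s, c, hs, hsum⟩ := D.perm_sum hS S hz
  have hev : ∀ ρ : IrrCharacter H, ∃ d N, ρ ∈ s → EvenValue D (ρ : H → ℂ) d N := fun ρ => by
    by_cases h : ρ ∈ s
    · obtain ⟨d, N, hdN⟩ := D.even_value hS ρ.2 (hs ρ h).2.1 (hs ρ h).2.2
      exact ⟨d, N, fun _ => hdN⟩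
    · exact ⟨0, 0, fun h' => absurd h' h⟩
  choose d N hdN using hev
  refine ⟨s, c, d, N, fun ρ hρ => ⟨(hs ρ hρ).1, hdN ρ hρ⟩, hsum, ?_, ?_⟩
  · have h : ((fix S 1 : ℕ) : ℂ) = ((1 + ∑ ρ ∈ s, c ρ * d ρ : ℕ) : ℂ) := by
      rw [hsum]; push_cast
      exact congrArg _ (Finset.sum_congr rfl fun ρ hρ => by rw [(hdN ρ hρ).deg])
    rw [fix_one] at h
    have h' : S.index = 1 + ∑ ρ ∈ s, c ρ * d ρ := by exact_mod_cast h
    rw [h']; push_cast; rfl
  · have h : (((fix S t : ℕ) : ℤ) : ℂ) = ((1 + ∑ ρ ∈ s, (c ρ : ℤ) * N ρ : ℤ) : ℂ) := by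
      rw [Int.cast_natCast, hsum]; push_cast
      exact congrArg _ (Finset.sum_congr rfl fun ρ hρ => by rw [(hdN ρ hρ).val])
    exact_mod_cast h

theorem fix_le (hS : SmallH t Z q) (S : Subgroup H) (hz : z ∈ S) :
    ((q : ℤ) - 1) * fix S t ≤ ((q : ℤ) - 1) + 2 * ((S.index : ℤ) - 1) := by
  obtain ⟨s, c, d, N, hs, -, hi, ht⟩ := D.perm_values hS S hz
  rw [ht, hi, mul_add, mul_one, add_sub_cancel_left, Finset.mul_sum, Finset.mul_sum]
  refine add_le_add le_rfl (Finset.sum_le_sum fun ρ hρ => ?_)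
  nlinarith [mul_le_mul_of_nonneg_left (hs ρ hρ).2.le (Int.natCast_nonneg (c ρ))]

theorem five_le_index (hS : SmallH t Z q) (S : Subgroup H) (hz : z ∈ S) (hne : S ≠ ⊤) (hfix : fix S t ≠ 0) :
    5 ≤ S.index := by
  obtain ⟨s, c, d, N, hs, -, hi, ht⟩ := D.perm_values hS S hz
  by_contra h5
  have hq := D.q_eq
  have ho := D.o_three
  have h1 : ∀ ρ ∈ s, N ρ = -1 ∧ d ρ = 1 := fun ρ hρ => by
    have h2 : (c ρ : ℤ) * d ρ ≤ ∑ ρ ∈ s, (c ρ : ℤ) * d ρ :=
      Finset.single_le_sum (f := fun ρ => (c ρ : ℤ) * d ρ) (fun ρ _ => by positivity) hρ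
    have h3 : (1 : ℤ) ≤ c ρ := by have := (hs ρ hρ).1; omega
    have h4 : (d ρ : ℤ) ≤ 3 := by
      have h7 : (S.index : ℤ) ≤ 4 := by omega
      have h5 : (d ρ : ℤ) ≤ c ρ * d ρ := le_mul_of_one_le_left (Int.natCast_nonneg _) h3
      linarith
    have hd : d ρ = 1 := by
      rcases (hs ρ hρ).2.deg_lin with h | h
      · exact h
      · omega
    refine ⟨?_, hd⟩
    have hle := (hs ρ hρ).2.le
    have hne' := (hs ρ hρ).2.ne_deg
    have hv := (hs ρ hρ).2.val
    obtain ⟨l, hl⟩ := exists_hom_of_degree_one (IsIrrCharacter.isCharacter ρ.2)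
      (by rw [(hs ρ hρ).2.deg, hd]; simp)
    have hsq : ((N ρ : ℂ)) * N ρ = 1 := by
      rw [← hv, ← hl, ← map_mul, ← pow_two, ← D.line.t_two, pow_orderOf_eq_one, map_one]
    rcases Int.eq_one_or_neg_one_of_mul_eq_one (by exact_mod_cast hsq : N ρ * N ρ = 1) with h | h
    · exact absurd h (by rw [hd] at hne'; simpa using hne')
    · exact h
  rw [Finset.sum_congr rfl fun ρ hρ => show (c ρ : ℤ) * N ρ = -((c ρ : ℤ) * d ρ) by
    rw [(h1 ρ hρ).1, (h1 ρ hρ).2]; push_cast; ring, Finset.sum_neg_distrib] at ht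
  have h0 := S.index_ne_zero_of_finite
  have : S.index = 1 := by omega
  exact hne (Subgroup.index_eq_one.1 this)

/-- A generator of the odd part of the torus. -/
theorem exists_gen : ∃ a : H, a ∈ centralizer ({t} : Set H) ∧ a ^ o = 1 ∧
    (∀ y ∈ centralizer ({t} : Set H), y ^ o = 1 → y ∈ zpowers a) ∧ orderOf a = o := by
  classical
  letI := Fintype.ofFinite (centralizer ({t} : Set H))
  obtain ⟨a, ha, hgen⟩ := D.line.torus_gen
  obtain ⟨w, hw⟩ : ∃ w, (o + 1) ^ 2 = 2 * (2 * w) := by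
    obtain ⟨m, hm⟩ := D.line.o_odd
    exact ⟨(m + 1) ^ 2, by rw [hm]; ring⟩
  set a0 := a ^ ((o + 1) ^ 2) with ha0
  have hz2 : ∀ ζ ∈ Z, ζ * ζ = 1 := fun ζ hζ => by
    rcases D.mem_Z.1 hζ with rfl | rfl
    · exact one_mul 1
    · exact D.z_sq
  have hao : a ^ (4 * o) = 1 := by
    have h := congrArg Subtype.val (pow_card_eq_one' (x := (⟨a, ha⟩ : centralizer ({t} : Set H))))
    rw [SubmonoidClass.coe_pow, OneMemClass.coe_one] at h
    rwa [D.torus.card] at h
  have h1 : a0 ^ o = 1 := by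
    rw [ha0, ← pow_mul, hw, show 2 * (2 * w) * o = 4 * o * w by ring, pow_mul, hao, one_pow]
  have h2 : ∀ y ∈ centralizer ({t} : Set H), y ^ o = 1 → y ∈ zpowers a0 := by
    intro y hy hyo
    obtain ⟨i, hi⟩ := hgen y hy
    have hc : Commute y (a ^ i) := D.line.torus_comm y hy _ (zpow_mem ha i)
    have e1 : y ^ ((o + 1) ^ 2) = y := by
      rw [show (o + 1) ^ 2 = o * (o + 2) + 1 by ring, pow_succ, pow_mul, hyo, one_pow, one_mul]
    have e2 : (y * a ^ i) ^ ((o + 1) ^ 2) = 1 := by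
      rw [hw, pow_mul, pow_two, hz2 _ hi, one_pow]
    rw [hc.mul_pow, e1] at e2
    refine mem_zpowers_iff.2 ⟨-i, ?_⟩
    rw [eq_inv_of_mul_eq_one_left e2, ha0, ← zpow_natCast, ← zpow_natCast, ← zpow_mul, ← zpow_mul, ← zpow_neg]
    congr 1
    ring
  refine ⟨a0, pow_mem ha _, h1, h2, Nat.dvd_antisymm (orderOf_dvd_of_pow_eq_one h1) ?_⟩
  have hle : D.torus.oddSub.map (centralizer ({t} : Set H)).subtype ≤ zpowers a0 := by
    rintro _ ⟨y, hy, rfl⟩
    exact h2 _ y.2 (by
      have := congrArg Subtype.val (D.torus.mem_oddSub.1 hy)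
      rwa [SubmonoidClass.coe_pow, OneMemClass.coe_one] at this)
  have := Subgroup.card_dvd_of_le hle
  rwa [Nat.card_zpowers, ← Nat.card_congr (Subgroup.equivMapOfInjective _ _ Subtype.val_injective).toEquiv,
    D.torus.card_oddSub] at this

open scoped Classical in
/-- For `q ≥ 9` the fixed points of `t` are few. -/
theorem fix_lt (hS : SmallH t Z q) (S : Subgroup H) (hz : z ∈ S) (hne : S ≠ ⊤) (h9 : 9 ≤ q) :
    ((q : ℤ) - 1) * fix S t < 2 * (S.index : ℤ) := by
  obtain ⟨s, c, d, N, hs, hsum, hi, ht⟩ := D.perm_values hS S hz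
  have hq := D.q_eq
  have hterm : ∀ ρ ∈ s, ((q : ℤ) - 1) * ((c ρ : ℤ) * N ρ) ≤ 2 * ((c ρ : ℤ) * d ρ) := fun ρ hρ => by
    nlinarith [mul_le_mul_of_nonneg_left (hs ρ hρ).2.le (Int.natCast_nonneg (c ρ))]
  by_cases hgood : ∃ ρ ∈ s, ((q : ℤ) - 1) * N ρ + ((q : ℤ) - 1) ≤ 2 * d ρ
  · obtain ⟨ρ0, h0, hg⟩ := hgood
    have hc : (1 : ℤ) ≤ c ρ0 := by have := (hs ρ0 h0).1; omega
    have hg2 : ((q : ℤ) - 1) * ((c ρ0 : ℤ) * N ρ0) + ((q : ℤ) - 1) ≤ 2 * ((c ρ0 : ℤ) * d ρ0) := by
      nlinarith [mul_le_mul_of_nonneg_left hg (by omega : (0 : ℤ) ≤ c ρ0),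
        mul_le_mul_of_nonneg_right hc (by omega : (0 : ℤ) ≤ (q : ℤ) - 1)]
    have hrest := Finset.sum_le_sum fun ρ (hρ : ρ ∈ s.erase ρ0) => hterm ρ (Finset.mem_of_mem_erase hρ)
    rw [← Finset.mul_sum, ← Finset.mul_sum] at hrest
    rw [hi, ht, ← Finset.add_sum_erase _ (fun ρ => (c ρ : ℤ) * N ρ) h0,
      ← Finset.add_sum_erase _ (fun ρ => (c ρ : ℤ) * d ρ) h0]
    linarith
  exfalso
  push Not at hgood
  have hex : ∀ ρ ∈ s, d ρ = q - 1 ∧ N ρ = 2 ∧ D.torusFix (ρ : H → ℂ) = 2 ∧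
      ∀ y : H, y ∈ centralizer ({t} : Set H) → y ^ o = 1 → y ≠ 1 →
        (ρ : H → ℂ) y + (ρ : H → ℂ) (t * y) = 0 := fun ρ hρ =>
    ((hs ρ hρ).2.gain h9).resolve_left (not_le.2 (hgood ρ hρ))
  set M := ∑ ρ ∈ s, c ρ with hM
  have hidx : S.index = 1 + (q - 1) * M := by
    have h : (S.index : ℤ) = ((1 + (q - 1) * M : ℕ) : ℤ) := by
      rw [hi, hM, Finset.mul_sum]; push_cast
      exact congrArg _ (Finset.sum_congr rfl fun ρ hρ => by rw [(hex ρ hρ).1]; ring)
    exact_mod_cast h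
  obtain ⟨a, ha, hao, hagen, haord⟩ := D.exists_gen
  set T0 := Finset.univ.filter fun y : H => y ∈ centralizer ({t} : Set H) ∧ y ^ o = 1 with hT0
  have hmem : ∀ y ∈ T0, y ∈ centralizer ({t} : Set H) ∧ y ^ o = 1 := fun y hy => (Finset.mem_filter.1 hy).2
  have hone : (1 : H) ∈ T0 := by simp [hT0]
  have haT : a ∈ T0 := by simp [hT0, ha, hao]
  have hcard : T0.card = o := by
    have e : T0 = Finset.univ.filter fun y : H => y ∈ zpowers a := by
      ext y
      simp only [hT0, Finset.mem_filter, Finset.mem_univ, true_and]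
      refine ⟨fun h => hagen y h.1 h.2, fun h => ?_⟩
      obtain ⟨i, rfl⟩ := mem_zpowers_iff.1 h
      exact ⟨zpow_mem ha i, by rw [← zpow_natCast, ← zpow_mul, mul_comm, zpow_mul, zpow_natCast, hao, one_zpow]⟩
    rw [e, ← Fintype.card_subtype, ← Nat.card_eq_fintype_card, ← haord, Nat.card_zpowers]
  have hsum2 : ∀ y ∈ T0, y ≠ 1 → fix S y + fix S (t * y) = 2 := fun y hy hy1 => by
    have h : ((fix S y + fix S (t * y) : ℕ) : ℂ) = ((2 : ℕ) : ℂ) := by
      push_cast
      rw [hsum, hsum, add_add_add_comm, ← Finset.sum_add_distrib,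
        Finset.sum_eq_zero fun ρ hρ => by
          rw [← mul_add, (hex ρ hρ).2.2.2 y (hmem y hy).1 (hmem y hy).2 hy1, mul_zero]]
      norm_num
    exact_mod_cast h
  have ht2 : t * t = 1 := by rw [← pow_two, ← D.line.t_two, pow_orderOf_eq_one]
  have htpow : t ^ (o + 1) = 1 := by
    obtain ⟨m, hm⟩ := D.line.o_odd
    rw [hm, show 2 * m + 1 + 1 = 2 * (m + 1) by ring, pow_mul, pow_two, ht2, one_pow]
  have hty : ∀ y ∈ T0, fix S (t * y) ≤ fix S y ∧ y ∈ zpowers (t * a) := fun y hy => by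
    obtain ⟨hyT, hyo⟩ := hmem y hy
    have hpow : ∀ u ∈ T0, (t * u) ^ (o + 1) = u := fun u hu => by
      obtain ⟨huT, huo⟩ := hmem u hu
      rw [(mem_centralizer_singleton_iff.1 huT).symm |> fun h => (show Commute t u from h).mul_pow, htpow,
        one_mul, pow_succ, huo, one_mul]
    refine ⟨fix_mono S (mem_zpowers_iff.2 ⟨((o + 1 : ℕ) : ℤ), by rw [zpow_natCast, hpow y hy]⟩), ?_⟩
    obtain ⟨i, rfl⟩ := mem_zpowers_iff.1 (hagen y hyT hyo)
    exact mem_zpowers_iff.2 ⟨((o + 1 : ℕ) : ℤ) * i, by rw [zpow_mul, zpow_natCast, hpow a haT]⟩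
  have ha1 : a ≠ 1 := fun e => by
    rw [e, orderOf_one] at haord
    have := D.o_three
    omega
  have hav : fix S a = 1 ∨ fix S a = 2 := by
    have h1 := hsum2 a haT ha1
    have h2 := (hty a haT).1
    omega
  have hval : ∀ y ∈ T0, y ≠ 1 → fix S y = fix S a := fun y hy hy1 => by
    have h1 := hsum2 y hy hy1
    have h2 := (hty y hy).1
    have h3 := fix_mono S (hagen y (hmem y hy).1 (hmem y hy).2)
    rcases hav with h | h
    · have h4 : fix S (t * a) = 1 := by have := hsum2 a haT ha1; omega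
      have h5 : t * y ∈ zpowers (t * a) := by
        refine mul_mem (mem_zpowers_iff.2 ⟨(o : ℤ), ?_⟩) (hty y hy).2
        rw [zpow_natCast, (show Commute t a from (mem_centralizer_singleton_iff.1 ha).symm).mul_pow, hao, mul_one]
        obtain ⟨m, hm⟩ := D.line.o_odd
        rw [hm, pow_succ, pow_mul, pow_two, ht2, one_pow, one_mul]
      have h6 := fix_mono S h5
      omega
    · omega
  have hfsum : ∑ y ∈ T0, fix S y = o + 2 * o * M := by
    have h : ((∑ y ∈ T0, fix S y : ℕ) : ℂ) = ((o + 2 * o * M : ℕ) : ℂ) := by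
      push_cast
      rw [Finset.sum_congr rfl fun y _ => hsum y, Finset.sum_add_distrib, Finset.sum_const, hcard,
        nsmul_eq_mul, mul_one, Finset.sum_comm, hM, Nat.cast_sum, Finset.mul_sum]
      refine congrArg _ (Finset.sum_congr rfl fun ρ hρ => ?_)
      have h2 := (hex ρ hρ).2.2.1
      rw [torusFix, inv_mul_eq_iff_eq_mul₀ (Nat.cast_ne_zero.2 (by have := D.o_three; omega))] at h2
      rw [← Finset.mul_sum, hT0]
      convert congrArg ((c ρ : ℂ) * ·) h2 using 1
      ring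
    exact_mod_cast h
  rw [← Finset.add_sum_erase _ _ hone, fix_one, Finset.sum_congr rfl fun y hy =>
    hval y (Finset.mem_of_mem_erase hy) (Finset.ne_of_mem_erase hy), Finset.sum_const,
    Finset.card_erase_of_mem hone, hcard, smul_eq_mul, hidx] at hfsum
  have ho := D.o_three
  have hq1 : q - 1 = 2 * (o - 1) := by omega
  have hM0 : M ≠ 0 := fun e => hne (Subgroup.index_eq_one.1 (by rw [hidx, e, mul_zero, add_zero]))
  obtain ⟨o', rfl⟩ : ∃ o', o = o' + 1 := ⟨o - 1, by omega⟩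
  simp only [Nat.add_sub_cancel] at hfsum hq1
  rw [hq1] at hfsum hidx
  rcases hav with h | h
  · rw [h] at hfsum
    have : 2 * M = 0 := by linarith
    omega
  rw [h] at hfsum
  have h2M : 2 * M = o' := by linarith
  subst h2M
  -- the stabiliser of a point contains `z` and a conjugate of `a`
  have hSc : 2 * (2 * M + 1) ∣ Nat.card S := by
    obtain ⟨⟨p, hp⟩⟩ : Nonempty (MulAction.fixedBy (H ⧸ S) a) := (Nat.card_pos_iff.1 (by
      show 0 < fix S a
      omega)).1
    obtain ⟨y, rfl⟩ := QuotientGroup.mk_surjective p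
    have hy : y⁻¹ * a * y ∈ S := by
      have hp' : a • (y : H ⧸ S) = (y : H ⧸ S) := hp
      rw [MulAction.Quotient.smul_coe, eq_comm, QuotientGroup.eq, smul_eq_mul] at hp'
      rwa [mul_assoc]
    refine Nat.Coprime.mul_dvd_of_dvd_of_dvd
      (Nat.prime_two.coprime_iff_not_dvd.2 (by omega)) ?_ ?_
    · have := Subgroup.orderOf_dvd_natCard S hz
      rwa [orderOf_eq_prime (by rw [pow_two]; exact D.z_sq) D.z_ne] at this
    · have := Subgroup.orderOf_dvd_natCard S hy
      have e : orderOf (y⁻¹ * a * y) = orderOf a := by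
        have h' := MulEquiv.orderOf_eq (MulAut.conj y⁻¹) a
        rwa [MulAut.conj_apply, inv_inv] at h'
      rw [e, haord] at this
      exact this
  obtain ⟨k, hk⟩ := hSc
  have hidx2 : S.index = 8 * M ^ 2 * 0 + (1 + 4 * M ^ 2) := by rw [hidx]; ring
  have hcardH := S.index_mul_card
  rw [hk, D.line.card_H, hidx2] at hcardH
  have hq4 : q = 4 * M + 1 := by omega
  have e2 : (1 + 4 * M ^ 2) * k = q * (8 * M) := by
    have e1 : q ^ 2 - 1 = (2 * (2 * M + 1)) * (4 * M) := by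
      rw [hq4]
      exact Nat.sub_eq_of_eq_add (by ring)
    rw [e1] at hcardH
    simp only [mul_zero, zero_add, pow_one] at hcardH
    have h2 : (2 * (2 * M + 1)) * ((1 + 4 * M ^ 2) * k) = (2 * (2 * M + 1)) * (q * (8 * M)) := by linarith
    exact Nat.eq_of_mul_eq_mul_left (by omega) h2
  have hcop : Nat.Coprime (1 + 4 * M ^ 2) (8 * M) := by
    refine Nat.Coprime.mul_right ?_ ?_
    · rw [show 8 = 2 ^ 3 by norm_num]
      refine Nat.Coprime.pow_right 3 (Nat.coprime_comm.1 (Nat.prime_two.coprime_iff_not_dvd.2 ?_))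
      intro hd
      have h4 : 2 ∣ 4 * M ^ 2 := Dvd.intro _ (show 2 * (2 * M ^ 2) = 4 * M ^ 2 by ring)
      omega
    · have e : 1 + 4 * M ^ 2 = 1 + M * (4 * M) := by ring
      rw [e, Nat.coprime_add_mul_left_left]
      exact Nat.coprime_one_left M
  have hdvd := Nat.le_of_dvd (by omega) (hcop.dvd_of_dvd_mul_right (Dvd.intro k e2))
  have hM2 : 2 ≤ M := by omega
  nlinarith [Nat.mul_le_mul_left (4 * M) hM2]

open scoped Classical in
/-- Few `y` conjugate the torus into `S`. -/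
theorem torus_count (S : Subgroup H) (hz : z ∈ S) :
    ((Finset.univ.filter fun y : H => ∀ x ∈ centralizer ({t} : Set H), y⁻¹ * x * y ∈ S).card : ℤ) *
      (4 * o - 2) ≤ 8 * o * ((Nat.card S : ℤ) - 2) := by
  set Y := Finset.univ.filter fun y : H => ∀ x ∈ centralizer ({t} : Set H), y⁻¹ * x * y ∈ S
  set U := Finset.univ.filter fun x : H => x ∈ centralizer ({t} : Set H) ∧ x ∉ Z
  set f : H × H → H := fun p => p.1⁻¹ * p.2 * p.1
  have hU : (U.card : ℤ) = 4 * o - 2 := by
    have h1 : (Finset.univ.filter fun x : H => x ∈ centralizer ({t} : Set H)).card = 4 * o := by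
      rw [← Fintype.card_subtype, ← Nat.card_eq_fintype_card, D.line.torus_card]; ring
    have h2 := Finset.card_filter_add_card_filter_not
      (s := Finset.univ.filter fun x : H => x ∈ centralizer ({t} : Set H)) (fun x => x ∈ Z)
    rw [Finset.filter_filter, Finset.filter_filter, h1] at h2
    have h3 : (Finset.univ.filter fun x : H => x ∈ centralizer ({t} : Set H) ∧ x ∈ Z).card = 2 := by
      rw [Finset.filter_congr fun x _ => (⟨fun h => h.2, fun h => ⟨D.Z_le h, h⟩⟩ :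
        (x ∈ centralizer ({t} : Set H) ∧ x ∈ Z) ↔ x ∈ Z), ← Fintype.card_subtype, ← Nat.card_eq_fintype_card]
      exact D.line.card_Z
    rw [h3] at h2
    have : U.card + 2 = 4 * o := by
      rw [add_comm]; exact h2
    omega
  have himg : (Y ×ˢ U).image f ⊆ Finset.univ.filter fun w : H => w ∈ S ∧ w ∉ Z := by
    intro w hw
    obtain ⟨⟨y, x⟩, hp, rfl⟩ := Finset.mem_image.1 hw
    simp only [Finset.mem_product, Y, U, Finset.mem_filter, Finset.mem_univ, true_and] at hp ⊢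
    refine ⟨hp.1 x hp.2.1, fun hwZ => hp.2.2 ?_⟩
    have e : x = y * (f (y, x)) * y⁻¹ := by simp only [f]; group
    rw [e, ← (D.line.central_Z _ hwZ y).eq, mul_inv_cancel_right]
    exact hwZ
  have hfib : ∀ w ∈ (Y ×ˢ U).image f, ((Y ×ˢ U).filter fun p => f p = w).card ≤ 8 * o := by
    intro w hw
    obtain ⟨⟨y0, x0⟩, hp0, rfl⟩ := Finset.mem_image.1 hw
    have hx0 := (Finset.mem_filter.1 (Finset.mem_product.1 hp0).2).2
    rw [← D.normalizer_card, Nat.card_eq_fintype_card, Fintype.card_subtype]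
    refine Finset.card_le_card_of_injOn (fun p => p.1 * y0⁻¹) ?_ ?_
    · rintro ⟨y, x⟩ hp
      simp only [Finset.coe_filter, Finset.mem_product, Set.mem_setOf_eq] at hp
      have hx := (Finset.mem_filter.1 hp.1.2).2
      simp only [Finset.coe_filter, Finset.mem_univ, true_and, Set.mem_setOf_eq]
      refine D.line.torus_ti _ x0 hx0.1 hx0.2 ?_
      have e : y * y0⁻¹ * x0 * (y * y0⁻¹)⁻¹ = x := by
        have := hp.2
        simp only [f] at this
        calc y * y0⁻¹ * x0 * (y * y0⁻¹)⁻¹ = y * (y0⁻¹ * x0 * y0) * y⁻¹ := by group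
          _ = x := by rw [← this]; group
      rw [e]
      exact hx.1
    · rintro ⟨y, x⟩ hp ⟨y', x'⟩ hp' e
      simp only [Finset.coe_filter, Set.mem_setOf_eq] at hp hp'
      have ey : y = y' := mul_right_cancel e
      subst ey
      have := hp.2.trans hp'.2.symm
      simp only [f] at this
      exact Prod.ext rfl (mul_left_cancel (mul_right_cancel this))
  have h1 := Finset.card_le_mul_card_image (Y ×ˢ U) (8 * o) hfib
  have h2 := Finset.card_le_card himg
  have h3 : (Finset.univ.filter fun w : H => w ∈ S ∧ w ∉ Z).card + 2 ≤ Nat.card S := by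
    have hsub : insert (1 : H) (insert z (Finset.univ.filter fun w : H => w ∈ S ∧ w ∉ Z)) ⊆
        Finset.univ.filter fun w : H => w ∈ S := by
      intro w hw
      simp only [Finset.mem_insert, Finset.mem_filter, Finset.mem_univ, true_and] at hw ⊢
      rcases hw with rfl | rfl | h
      exacts [S.one_mem, hz, h.1]
    have := Finset.card_le_card hsub
    rw [Finset.card_insert_of_notMem (by simp [D.z_ne.symm, Z.one_mem]),
      Finset.card_insert_of_notMem (by simp [D.z_mem])] at this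
    rw [Nat.card_eq_fintype_card, Fintype.card_subtype]
    exact this
  rw [Finset.card_product] at h1
  have h4 : (Y.card : ℤ) * U.card ≤ (8 * o : ℕ) * ((Y ×ˢ U).image f).card := by exact_mod_cast h1
  have h5 : (((Y ×ˢ U).image f).card : ℤ) ≤ (Nat.card S : ℤ) - 2 := by omega
  rw [hU] at h4
  push_cast at h4
  nlinarith

end Data

end Cfsg.Agent.SDKeystone.Minus
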