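import Cfsg.Agent.Lib.SDKeystone.Budget.Facts
import Cfsg.Agent.Lib.RealOdd.Basic
import Cfsg.Agent.Lib.Char.Orth
import Cfsg.Agent.Lib.Char.Linear

/-!
# Averages over the fibres of a surjection, and the energy of a trivial intersection set (helper87)

* `avg π F` : the average of `F` on the fibres; `avg_inner`, `avg_comp`, `avg_eq_sum`;
* `exists_deflate` : an irreducible character trivial on the kernel comes from the quotient;
* `ti_energy` : a trivial intersection set carries at most `|N| / |W|` of a nonnegative class function.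
-/

set_option autoImplicit false
set_option linter.unusedSectionVars false

open scoped ComplexConjugate

namespace Cfsg.Agent.SDKeystone.Minus

open Cfsg Cfsg.Agent.Char

variable {W H : Type*} [Group W] [Group H] [Fintype W] [Fintype H]

open scoped Classical in
/-- The average over a fibre of `π`. -/
noncomputable def avg (π : W →* H) (F : W → ℂ) (h : H) : ℂ :=
  (Nat.card π.ker : ℂ)⁻¹ * ∑ x ∈ Finset.univ.filter (fun x : W => π x = h), F x

variable (π : W →* H)

open scoped Classical in
theorem avg_apply (F : W → ℂ) [Fintype π.ker] (x : W) :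
    avg π F (π x) = (Nat.card π.ker : ℂ)⁻¹ * ∑ o : π.ker, F (x * o) := by
  rw [avg]
  congr 1
  refine Finset.sum_bij' (fun y hy => (⟨x⁻¹ * y, ?_⟩ : π.ker)) (fun o _ => x * o) ?_ ?_ ?_ ?_ ?_
  · simp only [Finset.mem_filter] at hy
    rw [MonoidHom.mem_ker, map_mul, map_inv, hy.2, inv_mul_cancel]
  · simp
  · intro o _
    simp only [Finset.mem_filter, Finset.mem_univ, true_and, map_mul, MonoidHom.mem_ker.1 o.2, mul_one]
  · intro y _; simp
  · intro o _; simp
  · intro y _; simp

theorem avg_isClass (hπ : Function.Surjective π) {F : W → ℂ} (hF : IsClassFunction W F) :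
    IsClassFunction H (avg π F) := by
  classical
  intro h k
  obtain ⟨c, rfl⟩ := hπ k
  unfold avg
  congr 1
  let e : W ≃ W := ⟨fun x => c⁻¹ * x * c, fun x => c * x * c⁻¹, fun x => by group, fun x => by group⟩
  refine Finset.sum_equiv e (fun x => ?_) (fun x _ => ?_)
  · simp only [Finset.mem_filter, Finset.mem_univ, true_and, e, Equiv.coe_fn_mk, map_mul, map_inv]
    constructor
    · intro e'; rw [e']; group
    · intro e'; rw [← e']; group
  · have := hF x c⁻¹
    rw [inv_inv] at this
    exact this.symm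

/-- Inner products of averages. -/
theorem avg_inner (hπ : Function.Surjective π) (F : W → ℂ) (ρ : H → ℂ) :
    classInner (avg π F) ρ = classInner F (fun x => ρ (π x)) := by
  classical
  have hc : (Nat.card W : ℂ) = (Nat.card π.ker : ℂ) * (Nat.card H : ℂ) := by
    rw [← π.ker.card_mul_index, Subgroup.index_ker, MonoidHom.range_eq_top.mpr hπ, Subgroup.card_top]
    push_cast; ring
  rw [classInner, classInner, ← Finset.sum_fiberwise_of_maps_to (t := Finset.univ) (g := π)
    (f := fun x => F x * conj (ρ (π x))) (fun x _ => Finset.mem_univ _), hc, mul_inv, Finset.mul_sum,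
    Finset.mul_sum]
  refine Finset.sum_congr rfl fun h _ => ?_
  rw [avg, Finset.sum_congr rfl (fun x hx => show F x * conj (ρ (π x)) = F x * conj (ρ h) by
    rw [(Finset.mem_filter.1 hx).2]), ← Finset.sum_mul]
  ring

theorem avg_comp [Fintype π.ker] (ρ : H → ℂ) (F : W → ℂ) (x : W) :
    avg π (fun y => ρ (π y) * F y) (π x) = ρ (π x) * avg π F (π x) := by
  rw [avg_apply, avg_apply, Finset.sum_congr rfl fun (o : π.ker) _ => show ρ (π (x * o)) * F (x * o) =
    ρ (π x) * F (x * o) by rw [map_mul, MonoidHom.mem_ker.1 o.2, mul_one], ← Finset.mul_sum]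
  ring

/-- An irreducible character trivial on the kernel comes from the quotient. -/
theorem exists_deflate (hπ : Function.Surjective π) {ψ : W → ℂ} (hψ : IsIrrCharacter W ψ)
    (ht : ∀ x, π x = 1 → ψ x = ψ 1) :
    ∃ ρ : H → ℂ, IsIrrCharacter H ρ ∧ ∀ x, ρ (π x) = ψ x := by
  haveI := Fintype.ofFinite π.ker
  have hv : ∀ x, avg π ψ (π x) = ψ x := fun x => by
    rw [avg_apply, Finset.sum_congr rfl fun (o : π.ker) _ => show ψ (x * o) = ψ x from ?_]
    · have : (Nat.card π.ker : ℂ) ≠ 0 := Nat.cast_ne_zero.mpr Nat.card_pos.ne'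
      rw [Finset.sum_const, Finset.card_univ, nsmul_eq_mul, ← Nat.card_eq_fintype_card, ← mul_assoc,
        inv_mul_cancel₀ this, one_mul]
    · have h1 := (Budget.trivial_on_iff hψ π.ker).1 (fun o ho => ht o (MonoidHom.mem_ker.1 ho)) x _
        (show x * (o : W) * x⁻¹ ∈ π.ker from (inferInstance : π.ker.Normal).conj_mem _ o.2 x)
      simpa [mul_assoc] using h1
  refine ⟨avg π ψ, ?_, hv⟩
  have hcl := avg_isClass π hπ (IsIrrCharacter.isClassFunction hψ)
  have hchar : IsCharacter H (avg π ψ) := isCharacter_of_classFunction hcl fun χ => by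
    rw [avg_inner π hπ]
    exact IsCharacter.classInner_nat (IsIrrCharacter.isCharacter hψ)
      (IsIrrCharacter.isCharacter (IsIrrCharacter.comp_surjective χ.2 π hπ))
  rw [isIrrCharacter_iff_norm_one hchar, avg_inner π hπ,
    show (fun x => avg π ψ (π x)) = ψ from funext hv, classInner_irr_self hψ]

/-- The average is the combination of the characters of the quotient by inner products. -/
theorem avg_eq_sum (hπ : Function.Surjective π) [Fintype (IrrCharacter H)] {F : W → ℂ}
    (hF : IsClassFunction W F) (h : H) :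
    avg π F h = ∑ ρ : IrrCharacter H, classInner F (fun x => (ρ : H → ℂ) (π x)) * (ρ : H → ℂ) h := by
  have := congrFun (classFunction_eq_sum (avg_isClass π hπ hF)) h
  simp only [Finset.sum_apply, Pi.smul_apply, smul_eq_mul, avg_inner π hπ] at this
  exact this

omit [Fintype H] in
/-- The squares of an irreducible character sum to the order. -/
theorem sum_norm_sq {ψ : W → ℂ} (hψ : IsIrrCharacter W ψ) : ∑ x, ‖ψ x‖ ^ 2 = (Nat.card W : ℝ) := by
  have := classInner_irr_self hψ
  rwa [classInner_self_eq, Complex.ofReal_eq_one,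
    inv_mul_eq_iff_eq_mul₀ (Nat.cast_ne_zero.mpr Nat.card_pos.ne'), mul_one] at this

omit [Fintype H] in
/-- A trivial intersection set with normaliser inside `N`. -/
theorem ti_energy (S : Finset W) (N : Subgroup W) (F : W → ℝ) (hF : ∀ x, 0 ≤ F x)
    (hcls : ∀ x g, F (g * x * g⁻¹) = F x) (h1 : (1 : W) ∉ S)
    (hti : ∀ g x, x ∈ S → g * x * g⁻¹ ∈ S → g ∈ N) :
    (N.index : ℝ) * ∑ x ∈ S, F x ≤ (∑ x, F x) - F 1 := by
  classical
  let f : (W ⧸ N) × W → W := fun p => p.1.out * p.2 * p.1.out⁻¹
  have hinj : Set.InjOn f ↑((Finset.univ : Finset (W ⧸ N)) ×ˢ S) := by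
    rintro ⟨a, x⟩ hax ⟨b, y⟩ hby e
    simp only [Finset.coe_product, Finset.coe_univ, Set.mem_prod, Set.mem_univ, true_and,
      Finset.mem_coe] at hax hby
    simp only [f] at e
    have e2 : b.out⁻¹ * a.out * x * (b.out⁻¹ * a.out)⁻¹ = y := by
      calc b.out⁻¹ * a.out * x * (b.out⁻¹ * a.out)⁻¹ = b.out⁻¹ * (a.out * x * a.out⁻¹) * b.out := by group
        _ = y := by rw [e]; group
    have hab : b = a := by
      rw [← QuotientGroup.out_eq' a, ← QuotientGroup.out_eq' b, QuotientGroup.eq]
      exact hti _ x hax (e2 ▸ hby)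
    subst hab
    exact Prod.ext rfl (by simpa using e)
  have hsub : ((Finset.univ : Finset (W ⧸ N)) ×ˢ S).image f ⊆ Finset.univ.erase 1 := fun w hw => by
    obtain ⟨⟨a, x⟩, hx, rfl⟩ := Finset.mem_image.1 hw
    refine Finset.mem_erase.2 ⟨fun e => h1 ?_, Finset.mem_univ _⟩
    have : x = 1 := conj_eq_one_iff.1 e
    exact this ▸ (Finset.mem_product.1 hx).2
  have h2 := Finset.sum_le_sum_of_subset_of_nonneg hsub (f := F) fun x _ _ => hF x
  rw [Finset.sum_image hinj, Finset.sum_product, Finset.sum_congr rfl fun a _ =>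
    Finset.sum_congr rfl fun x _ => show F (f (a, x)) = F x from hcls x a.out, Finset.sum_const,
    Finset.card_univ, nsmul_eq_mul, ← Nat.card_eq_fintype_card, ← Subgroup.index_eq_card,
    ← Finset.sum_erase_add _ _ (Finset.mem_univ (1 : W))] at *
  linarith

end Cfsg.Agent.SDKeystone.Minus
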