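import Cfsg.Agent.Lib.SDKeystone.Budget.Minus.HChar

/-!
# The values at `t` of the irreducible characters of `C₀ / O`, `δ = -1`, `n = 1` (helper87)

* `even_le`, `odd_le` : `|ρ(t)| ≤ torusFix ρ` for `ρ` trivial at `z`, `(q - 1) torusFix ρ ≤ 2 ρ(1)` otherwise;
* `EvenValue`, `even_value` : for non-trivial `ρ` trivial at `z`, `(q - 1) ρ(t) ≤ 2 ρ(1)`, with slack `q - 1`
  except in the exceptional case `ρ(1) = q - 1`, `ρ(t) = 2`.
-/

set_option autoImplicit false
set_option linter.unusedSectionVars false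
set_option linter.style.haveILetI false
set_option maxHeartbeats 1000000

open scoped ComplexConjugate

namespace Cfsg.Agent.SDKeystone.Minus

open Subgroup Cfsg Cfsg.Agent.Char Cfsg.Agent.InvolChar

variable {H : Type*} [Group H] [Fintype H] {X : Type*} [MulAction H X] {t z : H} {Z : Subgroup H}
  {q o : ℕ}

/-- The value at `t` of a non-trivial irreducible character trivial at `z`. -/
structure EvenValue (D : Data X t z Z q o) (ρ : H → ℂ) (d : ℕ) (N : ℤ) : Prop where
  deg : ρ 1 = d
  val : ρ t = N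
  ne_deg : N ≠ d
  deg_lin : d = 1 ∨ q - 1 ≤ d
  le : ((q : ℤ) - 1) * N ≤ 2 * d
  gain : 9 ≤ q → ((q : ℤ) - 1) * N + ((q : ℤ) - 1) ≤ 2 * d ∨
    (d = q - 1 ∧ N = 2 ∧ D.torusFix ρ = 2 ∧
      ∀ y : H, y ∈ (centralizer ({t} : Set H)) → y ^ o = 1 → y ≠ 1 → ρ y + ρ (t * y) = 0)

namespace Data

variable (D : Data X t z Z q o)
include D

theorem Z_le : Z ≤ (centralizer ({t} : Set H)) := fun x hx =>
  mem_centralizer_singleton_iff.2 (D.line.central_Z x hx t).eq

theorem exists_inverting (hS : SmallH t Z q) :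
    ∃ e : (centralizer ({t} : Set H)) ≃* (centralizer ({t} : Set H)), (∀ x : (centralizer ({t} : Set H)), ∃ h : H, (e x : H) = h * (x : H) * h⁻¹) ∧
      ∀ x : (centralizer ({t} : Set H)), (e x : H) * x ∈ Z := by
  obtain ⟨a, ha, hgen⟩ := D.line.torus_gen
  obtain ⟨h, hh⟩ := hS.inv a ha
  have ha' : h * a * h⁻¹ ∈ (centralizer ({t} : Set H)) := by
    have := mul_mem (D.Z_le hh) (inv_mem ha)
    rwa [mul_inv_cancel_right] at this
  have key : ∀ x ∈ (centralizer ({t} : Set H)), h * x * h⁻¹ * x ∈ Z := by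
    intro x hx
    obtain ⟨i, hi⟩ := hgen x hx
    obtain ⟨ζ, hζ, rfl⟩ : ∃ ζ ∈ Z, x = ζ * a ^ (-i) := ⟨x * a ^ i, hi, by rw [zpow_neg, mul_inv_cancel_right]⟩
    have hc : Commute (h * a * h⁻¹) a := D.line.torus_comm _ ha' _ ha
    have e1 : h * (ζ * a ^ (-i)) * h⁻¹ = ζ * (h * a * h⁻¹) ^ (-i) := by
      rw [conj_zpow, ← mul_assoc h ζ, ← (D.line.central_Z ζ hζ h).eq]
      group
    rw [e1, mul_assoc, ← mul_assoc ((h * a * h⁻¹) ^ (-i)) ζ, ← (D.line.central_Z ζ hζ _).eq, ← mul_assoc,
      ← mul_assoc, mul_assoc (ζ * ζ), ← hc.mul_zpow]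
    exact mul_mem (mul_mem hζ hζ) (zpow_mem hh _)
  have hmem : ∀ x ∈ (centralizer ({t} : Set H)), h * x * h⁻¹ ∈ (centralizer ({t} : Set H)) := fun x hx => by
    have := mul_mem (D.Z_le (key x hx)) (inv_mem hx)
    rwa [mul_inv_cancel_right] at this
  let f : (centralizer ({t} : Set H)) →* (centralizer ({t} : Set H)) :=
    { toFun := fun x => ⟨h * (x : H) * h⁻¹, hmem x x.2⟩
      map_one' := Subtype.ext (by simp)
      map_mul' := fun x y => Subtype.ext (by simp [mul_assoc]) }
  have hf : Function.Injective f := fun x y e => Subtype.ext (by simpa [f] using e)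
  exact ⟨MulEquiv.ofBijective f (Finite.injective_iff_bijective.1 hf), fun x => ⟨h, rfl⟩,
    fun x => key x x.2⟩

variable [Fintype (centralizer ({t} : Set H))] {f : (centralizer ({t} : Set H)) → ℂ} {ε : ℂ} {m : IrrCharacter (centralizer ({t} : Set H)) → ℕ} {c : ℕ}
  {J : Finset (IrrCharacter (centralizer ({t} : Set H)))}

theorem shape_one (hε : ε = 1 ∨ ε = -1) (S : D.Shape f ε m c J) :
    f 1 = ((2 * o * c + J.card : ℕ) : ℂ) := by
  classical
  rw [S.expand 1]
  simp only [D.torus.apply_one, mul_one]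
  rw [← Nat.cast_sum]
  congr 1
  have hm : ∀ ν ∈ D.torus.signChars ε, m ν = c + if ν ∈ J then 1 else 0 := fun ν hν => by
    have := S.mem ν hν
    split_ifs at this ⊢ <;> omega
  rw [Finset.sum_congr rfl hm, Finset.sum_add_distrib, Finset.sum_const, smul_eq_mul,
    D.torus.card_signChars ε hε, Finset.sum_ite_mem, Finset.inter_eq_right.2 S.sub, Finset.sum_const,
    smul_eq_mul, mul_one]

theorem shape_t (hε : ε = 1 ∨ ε = -1) (S : D.Shape f ε m c J) :
    f D.tT = ∑ ν ∈ J, (ν : (centralizer ({t} : Set H)) → ℂ) D.tT := by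
  classical
  rw [S.expand D.tT]
  have hm : ∀ ν ∈ D.torus.signChars ε, (m ν : ℂ) * (ν : (centralizer ({t} : Set H)) → ℂ) D.tT =
      (c : ℂ) * (ν : (centralizer ({t} : Set H)) → ℂ) D.tT + if ν ∈ J then (ν : (centralizer ({t} : Set H)) → ℂ) D.tT else 0 := fun ν hν => by
    have h := S.mem ν hν
    rw [← Int.cast_natCast (m ν), h]
    split_ifs <;> push_cast <;> ring
  rw [Finset.sum_congr rfl hm, Finset.sum_add_distrib, ← Finset.mul_sum, D.torus.sum_signChars_t ε hε,
    mul_zero, zero_add, Finset.sum_ite_mem, Finset.inter_eq_right.2 S.sub]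

open scoped Classical in
/-- The constituents trivial on the odd part. -/
theorem card_trivJ (hε : ε = 1 ∨ ε = -1) (S : D.Shape f ε m c J) :
    (J.filter fun ν => D.torus.IsTrivOdd ν).card ≤ 2 :=
  (Finset.card_le_card (Finset.filter_subset_filter _ S.sub)).trans (D.torus.card_trivOdd ε hε).le

open scoped Classical in
theorem even_J (hS : SmallH t Z q) {ρ : H → ℂ} (hρ : IsClassFunction H ρ)
    (S : D.Shape (fun x : (centralizer ({t} : Set H)) => ρ x) ε m c J) :
    2 ∣ (J.filter fun ν => ¬ D.torus.IsTrivOdd ν).card := by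
  obtain ⟨e, hconj, he⟩ := D.exists_inverting hS
  have hee : ∀ x, e (e x) = x := fun x => by
    have h1 := he x
    obtain ⟨k, hk⟩ := hconj ⟨(e x : H) * x, D.Z_le h1⟩
    have hfix : e ⟨(e x : H) * x, D.Z_le h1⟩ = ⟨(e x : H) * x, D.Z_le h1⟩ := Subtype.ext (by
      rw [hk, ← (D.line.central_Z _ h1 k).eq, mul_inv_cancel_right])
    have e1 : (⟨(e x : H) * x, D.Z_le h1⟩ : (centralizer ({t} : Set H))) = e x * x := rfl
    rw [e1, map_mul, D.torus.comm (e x) x] at hfix
    exact mul_right_cancel hfix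
  let σ : IrrCharacter (centralizer ({t} : Set H)) → IrrCharacter (centralizer ({t} : Set H)) := fun ν =>
    ⟨fun x => (ν : (centralizer ({t} : Set H)) → ℂ) (e x), IsIrrCharacter.comp_equiv ν.2 e⟩
  have hσz : ∀ ν, (σ ν : (centralizer ({t} : Set H)) → ℂ) D.zT = (ν : (centralizer ({t} : Set H)) → ℂ) D.zT := fun ν => by
    obtain ⟨k, hk⟩ := hconj D.zT
    have : e D.zT = D.zT := Subtype.ext (by
      rw [hk]
      exact (congrArg (· * k⁻¹) (D.z_comm k).symm).trans (mul_inv_cancel_right z k))
    show (ν : (centralizer ({t} : Set H)) → ℂ) (e D.zT) = _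
    rw [this]
  have hσσ : ∀ ν, σ (σ ν) = ν := fun ν => Subtype.ext (funext fun x => by
    show (ν : (centralizer ({t} : Set H)) → ℂ) (e (e x)) = _
    rw [hee])
  have hm : ∀ ν, m (σ ν) = m ν := fun ν => by
    have h2 := classInner_comp_equiv e (fun x : (centralizer ({t} : Set H)) => ρ x) (ν : (centralizer ({t} : Set H)) → ℂ)
    have e2 : (fun x : (centralizer ({t} : Set H)) => ρ (e x)) = fun x : (centralizer ({t} : Set H)) => ρ x := funext fun x => by
      obtain ⟨k, hk⟩ := hconj x
      rw [hk, hρ x k]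
    rw [e2, S.eq_coef] at h2
    have h3 := (S.eq_coef (σ ν)).symm.trans h2
    exact_mod_cast h3
  have hodd : ∀ ν, ¬ D.torus.IsTrivOdd ν → σ ν ≠ ν := fun ν hν hfix => hν fun y hy => by
    have hy' := D.torus.mem_oddSub.1 hy
    have h1 := D.mem_Z.1 (he y)
    have hne : (e y : H) * y ≠ z := fun ez => D.z_ne (by
      have h3 : ((e y * y) ^ o : (centralizer ({t} : Set H))) = 1 := by
        rw [Commute.mul_pow (D.torus.comm (e y) y), ← map_pow, hy', map_one, one_mul]
      have h4 : (e y * y : (centralizer ({t} : Set H))) = D.zT := Subtype.ext ez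
      rw [h4, D.torus.pow_o_z] at h3
      exact congrArg Subtype.val h3)
    have h2 : e y * y = 1 := Subtype.ext (h1.resolve_right hne)
    have h5 : (ν : (centralizer ({t} : Set H)) → ℂ) y * (ν : (centralizer ({t} : Set H)) → ℂ) y = 1 := by
      have h6 : (ν : (centralizer ({t} : Set H)) → ℂ) (e y) = (ν : (centralizer ({t} : Set H)) → ℂ) y := congrFun (congrArg Subtype.val hfix) y
      rw [← D.torus.apply_one ν, ← h2, D.torus.apply_mul, h6]
    rcases mul_self_eq_one_iff.1 h5 with h | h
    · exact h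
    · obtain ⟨l, hl⟩ := D.torus.exists_hom ν
      have h7 : l y ^ o = 1 := by rw [← map_pow, hy', map_one]
      rw [hl, h, D.line.o_odd.neg_one_pow] at h7
      norm_num at h7
  have htriv : ∀ ν, D.torus.IsTrivOdd ν → D.torus.IsTrivOdd (σ ν) := fun ν hν y hy =>
    hν (e y) (D.torus.mem_oddSub.2 (by rw [← map_pow, D.torus.mem_oddSub.1 hy, map_one]))
  have hJ : ∀ ν, ν ∈ J → σ ν ∈ J := fun ν hν => by
    have hs := S.sub hν
    have hs' : σ ν ∈ D.torus.signChars ε := D.torus.mem_signChars.2 ((hσz ν).trans (D.torus.mem_signChars.1 hs))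
    by_contra hne
    have h1 := S.mem ν hs
    have h2 := S.mem (σ ν) hs'
    rw [hm, if_neg hne] at h2
    rw [if_pos hν] at h1
    omega
  have h0 : ∑ _ν ∈ J.filter (fun ν => ¬ D.torus.IsTrivOdd ν), (1 : ZMod 2) = 0 := by
    refine Finset.sum_involution (fun ν _ => σ ν) (fun _ _ => rfl) (fun ν hν _ => ?_) (fun ν hν => ?_)
      (fun ν _ => hσσ ν)
    · exact hodd ν (Finset.mem_filter.1 hν).2
    · simp only [Finset.mem_filter] at hν ⊢
      exact ⟨hJ ν hν.1, fun h => hν.2 (hσσ ν ▸ htriv _ h)⟩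
  rw [Finset.sum_const, nsmul_one] at h0
  exact (ZMod.natCast_eq_zero_iff_even.1 h0).two_dvd

open scoped Classical in
theorem torusFix_eq (hε : ε = 1 ∨ ε = -1) {ρ : H → ℂ} (S : D.Shape (fun x : (centralizer ({t} : Set H)) => ρ x) ε m c J) :
    D.torusFix ρ = ((2 * c + (J.filter fun ν => D.torus.IsTrivOdd ν).card : ℕ) : ℂ) := by
  letI := Fintype.ofFinite D.torus.oddSub
  have e1 : ∑ y ∈ Finset.univ.filter (fun y : H => y ∈ (centralizer ({t} : Set H)) ∧ y ^ o = 1), ρ y =
      ∑ y : D.torus.oddSub, ρ ((y : (centralizer ({t} : Set H))) : H) := by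
    symm
    refine Finset.sum_bij (fun y _ => ((y : (centralizer ({t} : Set H))) : H)) (fun y _ => ?_) (fun y _ y' _ e => ?_)
      (fun y hy => ?_) (fun y _ => rfl)
    · simp only [Finset.mem_filter, Finset.mem_univ, true_and]
      exact ⟨(y : (centralizer ({t} : Set H))).2, by rw [← Subgroup.coe_pow, D.torus.mem_oddSub.1 y.2, Subgroup.coe_one]⟩
    · exact Subtype.ext (Subtype.ext e)
    · simp only [Finset.mem_filter, Finset.mem_univ, true_and] at hy
      exact ⟨⟨⟨y, hy.1⟩, D.torus.mem_oddSub.2 (Subtype.ext hy.2)⟩, Finset.mem_univ _, rfl⟩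
  have e2 : ∀ y : D.torus.oddSub, ρ ((y : (centralizer ({t} : Set H))) : H) =
      ∑ ν ∈ D.torus.signChars ε, (m ν : ℂ) * (ν : (centralizer ({t} : Set H)) → ℂ) (y : (centralizer ({t} : Set H))) := fun y => S.expand (y : (centralizer ({t} : Set H)))
  rw [torusFix, e1, Finset.sum_congr rfl fun y _ => e2 y, Finset.sum_comm]
  simp only [← Finset.mul_sum, D.torus.sum_oddSub, mul_ite, mul_zero]
  rw [← Finset.sum_filter, ← Finset.sum_mul, ← mul_assoc, mul_comm ((o : ℂ))⁻¹, mul_assoc,
    inv_mul_cancel₀ (Nat.cast_ne_zero.2 (by have := D.o_three; omega)), mul_one, ← Nat.cast_sum]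
  congr 1
  have hm : ∀ ν ∈ (D.torus.signChars ε).filter (fun ν => D.torus.IsTrivOdd ν),
      m ν = c + if ν ∈ J then 1 else 0 := fun ν hν => by
    have := S.mem ν (Finset.mem_filter.1 hν).1
    split_ifs at this ⊢ <;> omega
  rw [Finset.sum_congr rfl hm, Finset.sum_add_distrib, Finset.sum_const, smul_eq_mul,
    D.torus.card_trivOdd ε hε, Finset.sum_ite_mem, Finset.sum_const, smul_eq_mul, mul_one,
    show (D.torus.signChars ε).filter (fun ν => D.torus.IsTrivOdd ν) ∩ J =
      J.filter (fun ν => D.torus.IsTrivOdd ν) by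
        ext ν
        simp only [Finset.mem_inter, Finset.mem_filter]
        exact ⟨fun h => ⟨h.2, h.1.2⟩, fun h => ⟨⟨S.sub h.1, h.2⟩, h.1⟩⟩]

open scoped Classical in
/-- `|f(t)|` from the shape. -/
theorem norm_t_le (hε : ε = 1 ∨ ε = -1) (S : D.Shape f ε m c J) :
    ‖f D.tT‖ ≤ J.card ∧ ‖f D.tT‖ ≤ (2 * o : ℝ) - J.card := by
  rw [D.shape_t hε S]
  exact D.torus.signed_le ε hε J S.sub

/-- The even characters: the value at `t` is at most the fixed space of the odd part. -/
theorem even_le (hS : SmallH t Z q) {ρ : H → ℂ} (hρ : IsIrrCharacter H ρ)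
    (hz : ∀ x, ρ (z * x) = ρ x) : ∃ P : ℕ, D.torusFix ρ = P ∧ ‖ρ t‖ ≤ P := by
  classical
  obtain ⟨m, c, J, S⟩ := D.shape hρ (Or.inl rfl) fun x => by rw [hz, one_mul]
  refine ⟨_, D.torusFix_eq (Or.inl rfl) S, ?_⟩
  have h2 := D.even_J hS (IsIrrCharacter.isClassFunction hρ) S
  set U := J.filter (fun ν => D.torus.IsTrivOdd ν) with hU
  set R := J.filter (fun ν => ¬ D.torus.IsTrivOdd ν) with hR
  have hcard : U.card + R.card = J.card := Finset.card_filter_add_card_filter_not _
  have ha := D.card_trivJ (Or.inl rfl) S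
  rw [← hU] at ha
  have hdeg : ρ 1 = ((2 * o * c + J.card : ℕ) : ℂ) := by simpa using D.shape_one (Or.inl rfl) S
  have hsign : ∀ ν : IrrCharacter (centralizer ({t} : Set H)), ‖(ν : (centralizer ({t} : Set H)) → ℂ) D.tT‖ = 1 := fun ν => by
    rcases D.torus.apply_sign ν D.torus.t_sq with h | h <;> rw [h] <;> simp
  have hsub : ∀ A : Finset (IrrCharacter (centralizer ({t} : Set H))), ‖∑ ν ∈ A, (ν : (centralizer ({t} : Set H)) → ℂ) D.tT‖ ≤ A.card := fun A => by
    refine (norm_sum_le _ _).trans (le_of_eq ?_)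
    rw [Finset.sum_congr rfl fun ν _ => hsign ν]
    simp
  have hV : ∑ ν ∈ (D.torus.signChars 1).filter (fun ν => D.torus.IsTrivOdd ν), (ν : (centralizer ({t} : Set H)) → ℂ) D.tT = 0 := by
    obtain ⟨u, v, huv, e⟩ := Finset.card_eq_two.1 (D.torus.card_trivOdd 1 (Or.inl rfl))
    rw [e, Finset.sum_pair huv]
    have hu : u ∈ (D.torus.signChars 1).filter (fun ν => D.torus.IsTrivOdd ν) := by simp [e]
    have hv : v ∈ (D.torus.signChars 1).filter (fun ν => D.torus.IsTrivOdd ν) := by simp [e]
    simp only [Finset.mem_filter] at hu hv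
    rcases D.torus.apply_sign u D.torus.t_sq with h | h <;>
      rcases D.torus.apply_sign v D.torus.t_sq with h' | h' <;>
      first
      | exact absurd (D.torus.trivOdd_inj hu.1 hv.1 hu.2 hv.2 (h.trans h'.symm)) huv
      | (rw [h, h']; norm_num)
  have hW : ∑ ν ∈ (D.torus.signChars 1).filter (fun ν => ¬ D.torus.IsTrivOdd ν), (ν : (centralizer ({t} : Set H)) → ℂ) D.tT = 0 := by
    have := D.torus.sum_signChars_t 1 (Or.inl rfl)
    rwa [← Finset.sum_filter_add_sum_filter_not _ (fun ν => D.torus.IsTrivOdd ν), hV, zero_add] at this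
  have hval : ρ t = (∑ ν ∈ U, (ν : (centralizer ({t} : Set H)) → ℂ) D.tT) + ∑ ν ∈ R, (ν : (centralizer ({t} : Set H)) → ℂ) D.tT := by
    rw [hU, hR, Finset.sum_filter_add_sum_filter_not]
    exact D.shape_t (Or.inl rfl) S
  have hU2 : ‖∑ ν ∈ U, (ν : (centralizer ({t} : Set H)) → ℂ) D.tT‖ ≤ (if U.card = 2 then 0 else U.card : ℕ) := by
    split_ifs with h
    · have e : U = (D.torus.signChars 1).filter (fun ν => D.torus.IsTrivOdd ν) :=
        Finset.eq_of_subset_of_card_le (Finset.filter_subset_filter _ S.sub)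
          (by rw [h, D.torus.card_trivOdd 1 (Or.inl rfl)])
      rw [e, hV, norm_zero]; simp
    · exact hsub U
  have hR2 : ‖∑ ν ∈ R, (ν : (centralizer ({t} : Set H)) → ℂ) D.tT‖ ≤ ((min R.card (2 * o - 2 - R.card) : ℕ) : ℝ) := by
    rw [Nat.cast_min]
    refine le_min (hsub R) ?_
    have hRW : R ⊆ (D.torus.signChars 1).filter (fun ν => ¬ D.torus.IsTrivOdd ν) :=
      Finset.filter_subset_filter _ S.sub
    rw [← Finset.sum_sdiff hRW] at hW
    rw [eq_neg_of_add_eq_zero_right hW, norm_neg]
    refine (hsub _).trans ?_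
    rw [Finset.card_sdiff_of_subset hRW]
    have hWc : ((D.torus.signChars 1).filter (fun ν => ¬ D.torus.IsTrivOdd ν)).card = 2 * o - 2 := by
      have := Finset.card_filter_add_card_filter_not (s := D.torus.signChars 1)
        (fun ν => D.torus.IsTrivOdd ν)
      rw [D.torus.card_signChars 1 (Or.inl rfl), D.torus.card_trivOdd 1 (Or.inl rfl)] at this
      omega
    rw [hWc]
  have hb : (if U.card = 2 then 0 else U.card) + min R.card (2 * o - 2 - R.card) ≤ 2 * c + U.card := by
    have hne : c = 0 → J.card ≠ 2 ∧ (2 * o = 6 → J.card ≠ 3) := fun h0 => by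
      have hd : charDegree ρ = J.card := by
        rw [charDegree, hdeg, h0, mul_zero, zero_add]
        exact Nat.floor_natCast _
      have hsm := hS.small ⟨ρ, hρ⟩
      simp only [hd] at hsm
      have := D.q_eq
      have := D.o_three
      exact ⟨fun h => by have := hsm (by omega); omega, fun h6 h => by have := hsm (by omega); omega⟩
    rcases S.cases with h | h | h <;> rcases Nat.eq_zero_or_pos c with hc | hc <;>
      [have := hne hc; skip; have := hne hc; skip; have := hne hc; skip] <;>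
      (split_ifs <;> omega)
  rw [hval]
  refine (norm_add_le _ _).trans ((add_le_add hU2 hR2).trans ?_)
  exact_mod_cast hb

/-- The odd characters: the fixed space of the odd part is small. -/
theorem odd_le (hS : SmallH t Z q) {ρ : H → ℂ} (hρ : IsIrrCharacter H ρ)
    (hz : ∀ x, ρ (z * x) = -ρ x) :
    ∃ P d : ℕ, D.torusFix ρ = P ∧ ρ 1 = d ∧ (q - 1) * P ≤ 2 * d := by
  classical
  obtain ⟨m, c, J, S⟩ := D.shape hρ (Or.inr rfl) fun x => by rw [hz, neg_one_mul]
  have hdeg : ρ 1 = ((2 * o * c + J.card : ℕ) : ℂ) := by simpa using D.shape_one (Or.inr rfl) S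
  refine ⟨_, _, D.torusFix_eq (Or.inr rfl) S, hdeg, ?_⟩
  have h2 := D.even_J hS (IsIrrCharacter.isClassFunction hρ) S
  have ha := D.card_trivJ (Or.inr rfl) S
  set a := (J.filter fun ν => D.torus.IsTrivOdd ν).card with haU
  have hcard : a + (J.filter fun ν => ¬ D.torus.IsTrivOdd ν).card = J.card :=
    Finset.card_filter_add_card_filter_not _
  have h0 : ρ t = 0 := by
    have h1 : ρ (t * z) = ρ t := by
      obtain ⟨k, hk⟩ := isConj_iff.1 D.tz
      rw [← hk, IsIrrCharacter.isClassFunction hρ t k]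
    rw [← D.z_comm t, hz] at h1
    linear_combination (-1 / 2 : ℂ) * h1
  obtain ⟨N, hN, hpar⟩ := sign_sum_parity J (fun ν => (ν : (centralizer ({t} : Set H)) → ℂ) D.tT)
    fun ν _ => D.torus.apply_sign ν D.torus.t_sq
  have hN0 : N = 0 := by
    have h := D.shape_t (Or.inr rfl) S
    rw [hN] at h
    have h' : ((N : ℤ) : ℂ) = 0 := h.symm.trans h0
    exact_mod_cast h'
  subst hN0
  have hq := D.q_eq
  have ho := D.o_three
  by_cases ha2 : a = 2
  swap
  · have ha0 : a = 0 := by omega
    rw [ha0, add_zero]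
    exact (Nat.mul_le_mul_right _ (show q - 1 ≤ 2 * o by omega)).trans (by nlinarith)
  rw [ha2]
  rcases S.cases with h | h | h
  · have hj : J.card = 2 := by omega
    have hd : charDegree ρ = 2 * o * c + 2 := by
      rw [charDegree, hdeg, hj]; exact Nat.floor_natCast _
    rcases Nat.eq_zero_or_pos c with hc | hc
    · have := hS.small ⟨ρ, hρ⟩
      simp only [hd, hc, mul_zero, zero_add] at this
      have := this (by omega)
      omega
    rcases hS.root ⟨ρ, hρ⟩ with hr | hr <;> simp only [hd] at hr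
    · nlinarith
    · have h3 : q - 1 ∣ 2 * c + 2 := by
        have e : 2 * o * c + 2 = (q - 1) * c + (2 * c + 2) := by
          rw [show 2 * o = (q - 1) + 2 by omega]; ring
        rw [e] at hr
        exact (Nat.dvd_add_right (dvd_mul_right _ _)).1 hr
      have h4 := Nat.le_of_dvd (by omega) h3
      rw [hj]
      rw [show 2 * o = (q - 1) + 2 by omega]
      generalize q - 1 = r at h4 ⊢
      linarith
  · have h5 : q - 1 + 2 = 2 * o := by omega
    nlinarith [Nat.mul_le_mul_right (2 * c) (show q - 1 ≤ 2 * o by omega)]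
  · omega

/-- The values at `t` of the non-trivial even characters. -/
theorem even_value (hS : SmallH t Z q) {ρ : H → ℂ} (hρ : IsIrrCharacter H ρ)
    (hz : ∀ x, ρ (z * x) = ρ x) (hne : ρ ≠ 1) : ∃ d N, EvenValue D ρ d N := by
  classical
  obtain ⟨m, c, J, S⟩ := D.shape hρ (Or.inl rfl) fun x => by rw [hz, one_mul]
  have hdeg : ρ 1 = ((2 * o * c + J.card : ℕ) : ℂ) := by simpa using D.shape_one (Or.inl rfl) S
  have hd : charDegree ρ = 2 * o * c + J.card := by rw [charDegree, hdeg]; exact Nat.floor_natCast _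
  obtain ⟨N, hN, -⟩ := sign_sum_parity J (fun ν => (ν : (centralizer ({t} : Set H)) → ℂ) D.tT)
    fun ν _ => D.torus.apply_sign ν D.torus.t_sq
  have hval : ρ t = N := (D.shape_t (Or.inl rfl) S).trans hN
  have hn := D.norm_t_le (Or.inl rfl) S
  replace hn : ‖ρ t‖ ≤ (J.card : ℝ) ∧ ‖ρ t‖ ≤ (2 * o : ℝ) - J.card := hn
  rw [hval, Complex.norm_intCast] at hn
  have hn1 : |N| ≤ (J.card : ℤ) := by exact_mod_cast hn.1
  have hn2 : |N| ≤ 2 * (o : ℤ) - J.card := by exact_mod_cast hn.2
  have hN1 : N ≤ J.card := (le_abs_self N).trans hn1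
  have hN2 : N ≤ 2 * (o : ℤ) - J.card := (le_abs_self N).trans hn2
  have hq := D.q_eq
  have ho := D.o_three
  have hd0 : 2 * o * c + J.card ≠ 0 := fun e => IsIrrCharacter.apply_one_ne_zero hρ (by rw [hdeg, e]; simp)
  have hsm := hS.small ⟨ρ, hρ⟩
  simp only [hd] at hsm
  by_cases hlin : 2 * o * c + J.card = 1
  · have hρt : N = -1 := by
      have hl := D.torus.apply_sign
      have h1 : ρ t = 1 ∨ ρ t = -1 := by
        obtain ⟨l, hl⟩ := exists_hom_of_degree_one (IsIrrCharacter.isCharacter hρ)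
          (by rw [hdeg, hlin]; simp)
        rw [← hl]
        refine mul_self_eq_one_iff.1 ?_
        rw [← map_mul, ← pow_two, ← D.line.t_two, pow_orderOf_eq_one, map_one]
      rcases h1 with h | h
      · exact absurd (funext fun x => hS.lin ⟨ρ, hρ⟩ (show ρ 1 = 1 by rw [hdeg, hlin]; simp) h x) hne
      · rw [hval] at h; exact_mod_cast h
    subst hρt
    exact ⟨_, _, hdeg, hval, by omega, Or.inl hlin, by omega, fun _ => Or.inl (by omega)⟩
  have hbig : q - 1 ≤ 2 * o * c + J.card := by
    by_contra h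
    exact hlin (hsm (by omega))
  refine ⟨_, _, hdeg, hval, fun e => ?_, Or.inr hbig, ?_, fun h9 => ?_⟩
  · have : 2 * o * c + J.card ≤ 2 ∨ (2 * o = 6 ∧ J.card = 3 ∧ 2 * o * c + J.card ≤ 3) := by
      rcases S.cases with h | h | h
      · exact Or.inl (by omega)
      · exact Or.inl (by omega)
      · exact Or.inr ⟨h.1, h.2, by omega⟩
    omega
  · rcases S.cases with h | h | h
    · have h3 : N ≤ 2 := by omega
      have h4 := mul_le_mul_of_nonneg_left h3 (show (0 : ℤ) ≤ (q : ℤ) - 1 by omega)
      have h5 : (q : ℤ) - 1 ≤ ((2 * o * c + J.card : ℕ) : ℤ) := by omega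
      linarith
    · have h3 : N ≤ 2 := by omega
      have h4 := mul_le_mul_of_nonneg_left h3 (show (0 : ℤ) ≤ (q : ℤ) - 1 by omega)
      have h5 : (q : ℤ) - 1 ≤ ((2 * o * c + J.card : ℕ) : ℤ) := by omega
      linarith
    · rcases Nat.eq_zero_or_pos c with hc | hc
      · subst hc; omega
      · have h3 : N ≤ 3 := by omega
        have h6 : q = 5 := by omega
        have h9 : 2 * o * c ≥ 6 := by nlinarith
        subst h6
        omega
  · rcases le_or_gt N 1 with h1 | h1
    · left
      have h4 := mul_le_mul_of_nonneg_left h1 (show (0 : ℤ) ≤ (q : ℤ) - 1 by omega)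
      have h5 : (q : ℤ) - 1 ≤ ((2 * o * c + J.card : ℕ) : ℤ) := by omega
      linarith
    have hN' : N = 2 := by
      rcases S.cases with h | h | h <;> omega
    subst hN'
    have hj : J.card = 2 ∨ J.card + 2 = 2 * o := by
      rcases S.cases with h | h | h <;> omega
    rcases Nat.eq_zero_or_pos c with hc | hc
    · subst hc
      have hj' : J.card + 2 = 2 * o := by omega
      refine Or.inr ⟨by omega, rfl, ?_, ?_⟩
      · rw [D.torusFix_eq (Or.inl rfl) S]
        have hpar := D.even_J hS (IsIrrCharacter.isClassFunction hρ) S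
        have ha := D.card_trivJ (Or.inl rfl) S
        have hcard := Finset.card_filter_add_card_filter_not (s := J) (fun ν => D.torus.IsTrivOdd ν)
        have h0 : (J.filter fun ν => D.torus.IsTrivOdd ν).card ≠ 0 := fun e => by
          have hWc := Finset.card_filter_add_card_filter_not (s := D.torus.signChars 1)
            (fun ν => D.torus.IsTrivOdd ν)
          rw [D.torus.card_signChars 1 (Or.inl rfl), D.torus.card_trivOdd 1 (Or.inl rfl)] at hWc
          have hR : J.filter (fun ν => ¬ D.torus.IsTrivOdd ν) =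
              (D.torus.signChars 1).filter (fun ν => ¬ D.torus.IsTrivOdd ν) :=
            Finset.eq_of_subset_of_card_le (Finset.filter_subset_filter _ S.sub) (by omega)
          have hJ : J = (D.torus.signChars 1).filter (fun ν => ¬ D.torus.IsTrivOdd ν) := by
            rw [← hR, Finset.filter_eq_self.2 fun ν hν hT => by
              have : ν ∈ J.filter (fun ν => D.torus.IsTrivOdd ν) := Finset.mem_filter.2 ⟨hν, hT⟩
              rw [Finset.card_eq_zero.1 e] at this
              exact Finset.notMem_empty _ this]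
          have hz0 : ∑ ν ∈ J, (ν : (centralizer ({t} : Set H)) → ℂ) D.tT = 0 := by
            rw [hJ]
            have hall := D.torus.sum_signChars_t 1 (Or.inl rfl)
            obtain ⟨u, v, huv, e2⟩ := Finset.card_eq_two.1 (D.torus.card_trivOdd 1 (Or.inl rfl))
            rw [← Finset.sum_filter_add_sum_filter_not _ (fun ν => D.torus.IsTrivOdd ν), e2,
              Finset.sum_pair huv] at hall
            have hu : u ∈ (D.torus.signChars 1).filter (fun ν => D.torus.IsTrivOdd ν) := by simp [e2]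
            have hv : v ∈ (D.torus.signChars 1).filter (fun ν => D.torus.IsTrivOdd ν) := by simp [e2]
            simp only [Finset.mem_filter] at hu hv
            rcases D.torus.apply_sign u D.torus.t_sq with h | h <;>
              rcases D.torus.apply_sign v D.torus.t_sq with h' | h' <;>
              first
              | exact absurd (D.torus.trivOdd_inj hu.1 hv.1 hu.2 hv.2 (h.trans h'.symm)) huv
              | (rw [h, h'] at hall; linear_combination hall)
          rw [hN] at hz0
          norm_num at hz0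
        have : (J.filter fun ν => D.torus.IsTrivOdd ν).card = 2 := by omega
        rw [this]; norm_num
      · intro y hy hyo hy1
        have h1 := S.expand ⟨y, hy⟩
        have h2 := S.expand (D.tT * ⟨y, hy⟩)
        have hm : ∀ ν ∈ D.torus.signChars 1, (m ν : ℂ) = if ν ∈ J then 1 else 0 := fun ν hν => by
          have := S.mem ν hν
          split_ifs at this ⊢ <;> simp_all
        rw [show ρ y = ρ ((⟨y, hy⟩ : (centralizer ({t} : Set H))) : H) from rfl,
          show ρ (t * y) = ρ ((D.tT * ⟨y, hy⟩ : (centralizer ({t} : Set H))) : H) from rfl, h1, h2, ← Finset.sum_add_distrib]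
        -- the complement takes the value `-1` at `t`
        have hcomp : ∀ ν ∈ D.torus.signChars 1, ν ∉ J → (ν : (centralizer ({t} : Set H)) → ℂ) D.tT = -1 := by
          have hall := D.torus.sum_signChars_t 1 (Or.inl rfl)
          rw [← Finset.sum_sdiff S.sub, hN] at hall
          have hc2 : (D.torus.signChars 1 \ J).card = 2 := by
            rw [Finset.card_sdiff_of_subset S.sub, D.torus.card_signChars 1 (Or.inl rfl)]; omega
          obtain ⟨u, v, huv, e2⟩ := Finset.card_eq_two.1 hc2
          rw [e2, Finset.sum_pair huv] at hall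
          intro ν hν hνJ
          have : ν ∈ D.torus.signChars 1 \ J := Finset.mem_sdiff.2 ⟨hν, hνJ⟩
          rw [e2, Finset.mem_insert, Finset.mem_singleton] at this
          rcases D.torus.apply_sign u D.torus.t_sq with h | h <;>
            rcases D.torus.apply_sign v D.torus.t_sq with h' | h' <;>
            rw [h, h'] at hall <;> norm_num at hall <;>
            rcases this with rfl | rfl <;> assumption
        have key : ∀ ν ∈ D.torus.signChars 1, (m ν : ℂ) * (ν : (centralizer ({t} : Set H)) → ℂ) ⟨y, hy⟩ +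
            (m ν : ℂ) * (ν : (centralizer ({t} : Set H)) → ℂ) (D.tT * ⟨y, hy⟩) =
            (ν : (centralizer ({t} : Set H)) → ℂ) ⟨y, hy⟩ + (ν : (centralizer ({t} : Set H)) → ℂ) (D.tT * ⟨y, hy⟩) := fun ν hν => by
          rw [hm ν hν]
          split_ifs with h
          · ring
          · rw [D.torus.apply_mul, hcomp ν hν h]; ring
        rw [Finset.sum_congr rfl key, Finset.sum_add_distrib,
          D.torus.sum_signChars 1 (Or.inl rfl), D.torus.sum_signChars 1 (Or.inl rfl)]
        have hY : (⟨y, hy⟩ : (centralizer ({t} : Set H))) ^ o = 1 := Subtype.ext hyo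
        have n1 : (⟨y, hy⟩ : (centralizer ({t} : Set H))) ≠ 1 := fun e => hy1 (congrArg Subtype.val e)
        have n2 : (⟨y, hy⟩ : (centralizer ({t} : Set H))) ≠ D.zT := fun e => by
          rw [e, D.torus.pow_o_z] at hY
          exact D.torus.z_ne hY
        have e3 : (D.tT * ⟨y, hy⟩ : (centralizer ({t} : Set H))) ^ o = D.tT := by
          rw [Commute.mul_pow (D.torus.comm D.tT ⟨y, hy⟩), hY, mul_one, D.torus.pow_o_t]
        have n3 : (D.tT * ⟨y, hy⟩ : (centralizer ({t} : Set H))) ≠ 1 := fun e => by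
          rw [e, one_pow] at e3
          exact D.torus.t_ne e3.symm
        have n4 : (D.tT * ⟨y, hy⟩ : (centralizer ({t} : Set H))) ≠ D.zT := fun e => by
          rw [e, D.torus.pow_o_z] at e3
          exact D.torus.tz_ne e3.symm
        simp [n1, n2, n3, n4]
    · left
      have hqo : (q : ℤ) = 2 * o - 1 := by omega
      rcases hj with hj | hj
      · rcases Nat.lt_or_ge c 2 with hc2 | hc2
        · have hc1 : c = 1 := by omega
          subst hc1
          exfalso
          have hr := hS.root ⟨ρ, hρ⟩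
          simp only [hd, hj] at hr
          rcases hr with hr | hr
          · omega
          · have e : 2 * o * 1 + 2 = (q - 1) + 4 := by omega
            rw [e] at hr
            have := Nat.le_of_dvd (by omega) ((Nat.dvd_add_right dvd_rfl).1 hr)
            omega
        · have : (2 : ℤ) * o * c + 2 ≥ 4 * o + 2 := by nlinarith
          rw [hqo]; push_cast; rw [hj]; push_cast; linarith
      · have : (2 : ℤ) * o * c ≥ 2 * o := by nlinarith
        rw [hqo]; push_cast; linarith [(by exact_mod_cast hj : (J.card : ℤ) + 2 = 2 * o)]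

end Data

end Cfsg.Agent.SDKeystone.Minus
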