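import Cfsg.Agent.EqLemmas
import Cfsg.Agent.Lib.Char.Eigen
import Cfsg.Agent.Lib.Char.Inner
import Cfsg.Agent.Lib.Char.Orth
import Mathlib.GroupTheory.OrderOfElement
import Mathlib.Algebra.Order.Chebyshev

/-!
# Values at an involution averaged over a subgroup centralised by it (helper87)

* `norm_avg_le`, `norm_avg_eq` : `|avg_{a ∈ A} χ(t a)| ≤ χ(1)`, at equality `t` is a scalar and `A` trivial;
* `int_avg` : for an involution `t` centralising the subgroup `A` the average is an integer;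
* `norm_sq_int_avg` : its square is at most the average of `|χ(t a)|²`;
* `exists_centralised` : the coprime factorisation `b = a u`;
* `coset_norm` : `Σ_{C_K(t)} |F(t a)|²` for `F` of norm one on the coset `t K`.
-/

set_option autoImplicit false
set_option linter.unusedSectionVars false

open scoped ComplexConjugate commutatorElement

namespace Cfsg.Agent.SDKeystone.Minus

open Cfsg Cfsg.Agent.Char

variable {W : Type*} [Group W] [Finite W]

theorem norm_avg_le {χ : W → ℂ} (hχ : IsCharacter W χ) {d : ℕ} (hd : χ 1 = d) (t : W) (A : Finset W) :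
    ‖(A.card : ℂ)⁻¹ * ∑ a ∈ A, χ (t * a)‖ ≤ d := by
  rw [norm_mul, norm_inv, Complex.norm_natCast]
  rcases A.eq_empty_or_nonempty with rfl | hne
  · simp
  rw [inv_mul_le_iff₀ (Nat.cast_pos.2 hne.card_pos)]
  refine (norm_sum_le _ _).trans ?_
  refine (Finset.sum_le_card_nsmul _ _ _ fun a _ => ?_).trans_eq (nsmul_eq_mul _ _)
  refine (IsCharacter.norm_le hχ _).trans_eq ?_
  rw [hd, Complex.natCast_re]

theorem norm_avg_eq {χ : W → ℂ} (hχ : IsCharacter W χ) {d : ℕ} (hd : χ 1 = d) (t : W) (A : Finset W)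
    (h1 : (1 : W) ∈ A) (h : ‖(A.card : ℂ)⁻¹ * ∑ a ∈ A, χ (t * a)‖ = d) :
    (∀ a ∈ A, ∀ x, χ (a * x) = χ x) ∧ ∀ x : W, χ ⁅x, t⁆ = χ 1 := by
  classical
  obtain ⟨n, ρ, rfl⟩ := hχ
  have hn : n = d := by
    have := hd
    rw [Representation.char_one, Module.finrank_fin_fun] at this
    exact_mod_cast this
  subst hn
  have hcard : (A.card : ℝ) ≠ 0 := Nat.cast_ne_zero.2 (Finset.card_ne_zero_of_mem h1)
  rw [norm_mul, norm_inv, Complex.norm_natCast, inv_mul_eq_iff_eq_mul₀ hcard] at h
  have hle : ∀ a ∈ A, ‖ρ.character (t * a)‖ ≤ (n : ℝ) := fun a _ => by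
    simpa using norm_character_le ρ (t * a)
  have hsum : ∑ a ∈ A, ‖ρ.character (t * a)‖ = ∑ _a ∈ A, (n : ℝ) := by
    refine le_antisymm (Finset.sum_le_sum hle) ?_
    rw [Finset.sum_const, nsmul_eq_mul, ← h]
    exact norm_sum_le _ _
  have heach := (Finset.sum_eq_sum_iff_of_le hle).1 hsum
  have hscal : ∀ a ∈ A, ∃ ω : ℂ, ρ (t * a) = ω • LinearMap.id := fun a ha =>
    (norm_character_eq_iff ρ _).1 (by rw [heach a ha, Module.finrank_fin_fun])
  have hch : ∀ {g : W} {ω : ℂ}, ρ g = ω • LinearMap.id → ρ.character g = ω * n := fun {g ω} e => by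
    rw [Representation.character, e, map_smul, LinearMap.trace_id, Module.finrank_fin_fun, smul_eq_mul]
  rcases Nat.eq_zero_or_pos n with hn0 | hn0
  · have hs : ∀ g g' : W, ρ.character g = ρ.character g' := fun g g' => by
      subst hn0
      have : ∀ g : W, ρ g = (0 : ℂ) • LinearMap.id := fun g => Subsingleton.elim _ _
      rw [hch (this g), hch (this g')]
    exact ⟨fun a _ x => hs _ _, fun x => hs _ _⟩
  choose! ω hω using hscal
  have hnC : (n : ℂ) ≠ 0 := Nat.cast_ne_zero.2 hn0.ne'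
  have hω1 : ∀ a ∈ A, ‖ω a‖ = 1 := fun a ha => by
    have := heach a ha
    rw [hch (hω a ha), norm_mul, Complex.norm_natCast] at this
    exact mul_right_cancel₀ (Nat.cast_ne_zero.2 hn0.ne' : (n : ℝ) ≠ 0) (this.trans (one_mul _).symm)
  set μ : ℂ := (∑ a ∈ A, ω a) / (A.card : ℂ) with hμ
  have hsum' : ‖∑ a ∈ A, ω a‖ = (A.card : ℝ) := by
    have e : ∑ a ∈ A, ρ.character (t * a) = (∑ a ∈ A, ω a) * n := by
      rw [Finset.sum_mul]
      exact Finset.sum_congr rfl fun a ha => hch (hω a ha)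
    rw [e, norm_mul, Complex.norm_natCast] at h
    exact mul_right_cancel₀ (Nat.cast_ne_zero.2 hn0.ne') h
  have hall : ∀ a ∈ A, ω a = μ := fun a ha =>
    eq_of_sum_eq_card_mul (μ := fun i : A => ω i) (fun i => hω1 i i.2) (ω := μ)
      (by rw [hμ, norm_div, hsum', Complex.norm_natCast, div_self hcard])
      (by rw [hμ, Fintype.card_coe, Finset.sum_coe_sort A ω, mul_div_cancel₀ _
        (Nat.cast_ne_zero.2 (Finset.card_ne_zero_of_mem h1))]) ⟨a, ha⟩
  have ht : ρ t = μ • LinearMap.id := by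
    have := hω 1 h1
    rwa [mul_one, hall 1 h1] at this
  have hμ0 : μ ≠ 0 := fun e => by
    have := hω1 1 h1
    rw [hall 1 h1, e, norm_zero] at this
    exact zero_ne_one this
  constructor
  · intro a ha x
    have e : ρ a = LinearMap.id := by
      have e1 := hω a ha
      rw [hall a ha, map_mul, ht] at e1
      refine smul_right_injective _ hμ0 ?_
      simpa [Module.End.mul_eq_comp] using e1
    show LinearMap.trace ℂ _ (ρ (a * x)) = LinearMap.trace ℂ _ (ρ x)
    rw [map_mul, e]; rfl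
  · intro x
    have hc : ρ x * ρ t = ρ t * ρ x := by
      rw [ht]
      ext v
      simp [Module.End.mul_apply]
    show LinearMap.trace ℂ _ (ρ ⁅x, t⁆) = LinearMap.trace ℂ _ (ρ 1)
    have e : ρ ⁅x, t⁆ = ρ 1 := by
      calc ρ ⁅x, t⁆ = ρ x * ρ t * ρ x⁻¹ * ρ t⁻¹ := by rw [commutatorElement_def, map_mul, map_mul, map_mul]
        _ = ρ t * (ρ x * ρ x⁻¹) * ρ t⁻¹ := by rw [hc, mul_assoc (ρ t)]
        _ = ρ 1 := by rw [← map_mul ρ x, mul_inv_cancel, map_one, mul_one, ← map_mul, mul_inv_cancel, map_one]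
    rw [e]

/-- The subgroup `A ∪ t A`. -/
def adjoinInvol (A : Subgroup W) (t : W) (ht : t * t = 1) (hc : ∀ a ∈ A, Commute t a) : Subgroup W where
  carrier := {x | x ∈ A ∨ t * x ∈ A}
  one_mem' := Or.inl A.one_mem
  mul_mem' := by
    intro x y hx hy
    have hct : ∀ x, t * x ∈ A → Commute t x := fun x hx => by
      have h := hc _ hx
      have : Commute t (t * (t * x)) := (Commute.refl t).mul_right h
      rwa [← mul_assoc, ht, one_mul] at this
    rcases hx with hx | hx <;> rcases hy with hy | hy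
    · exact Or.inl (A.mul_mem hx hy)
    · refine Or.inr ?_
      rw [← mul_assoc, (hc x hx).eq, mul_assoc]
      exact A.mul_mem hx hy
    · exact Or.inr (by rw [← mul_assoc]; exact A.mul_mem hx hy)
    · refine Or.inl ?_
      have e : x * y = (t * x) * (t * y) := by
        rw [mul_assoc t x, ← mul_assoc x t, ← (hct x hx).eq, mul_assoc t x y, ← mul_assoc, ht, one_mul]
      rw [e]
      exact A.mul_mem hx hy
  inv_mem' := by
    intro x hx
    rcases hx with hx | hx
    · exact Or.inl (A.inv_mem hx)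
    · refine Or.inr ?_
      have h := A.inv_mem hx
      rw [mul_inv_rev, inv_eq_of_mul_eq_one_right ht] at h
      have hct : Commute t x := by
        have := (Commute.refl t).mul_right (hc _ hx)
        rwa [← mul_assoc, ht, one_mul] at this
      rwa [hct.inv_right.eq]

/-- An involution centralising `A`: the average over `A` at `t` is an integer. -/
theorem int_avg [Fintype W] {χ : W → ℂ} (hχ : IsCharacter W χ) (A : Subgroup W) [Fintype A] {t : W}
    (ht : t * t = 1) (hc : ∀ a ∈ A, Commute t a) (hA : t ∉ A) :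
    ∃ N : ℤ, (Fintype.card A : ℂ)⁻¹ * ∑ a : A, χ (t * a) = N := by
  classical
  set B := adjoinInvol A t ht hc
  have hmem : ∀ x, x ∈ B ↔ x ∈ A ∨ t * x ∈ A := fun x => Iff.rfl
  let f : A ⊕ A ≃ B := Equiv.ofBijective
    (Sum.elim (fun a => ⟨(a : W), (hmem _).2 (Or.inl a.2)⟩)
      (fun a => ⟨t * (a : W), (hmem _).2 (Or.inr (by rw [← mul_assoc, ht, one_mul]; exact a.2))⟩))
    ⟨by
      rintro (a | a) (a' | a') e <;> have e' := congrArg Subtype.val e <;> simp at e'
      · rw [e']
      · exact absurd (by rw [e'.trans rfl] : (a : W) = t * a') fun e2 => hA (by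
          have := A.mul_mem (e2 ▸ a.2) (A.inv_mem a'.2)
          simpa using this)
      · exact absurd e' fun e2 => hA (by
          have := A.mul_mem (e2 ▸ a'.2 : t * (a : W) ∈ A) (A.inv_mem a.2)
          simpa using this)
      · rw [e'],
    by
      rintro ⟨x, hx⟩
      rcases (hmem x).1 hx with h | h
      · exact ⟨Sum.inl ⟨x, h⟩, rfl⟩
      · exact ⟨Sum.inr ⟨t * x, h⟩, Subtype.ext (by simp [← mul_assoc, ht])⟩⟩
  obtain ⟨k, hk⟩ := IsCharacter.classInner_nat (IsCharacter.restrict hχ B) (isCharacter_one (G := B))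
  obtain ⟨l, hl⟩ := IsCharacter.classInner_nat (IsCharacter.restrict hχ A) (isCharacter_one (G := A))
  refine ⟨2 * k - l, ?_⟩
  have hB : (Nat.card B : ℂ) = 2 * Fintype.card A := by
    rw [← Nat.card_congr f, Nat.card_eq_fintype_card, Fintype.card_sum]; push_cast; ring
  simp only [classInner, Pi.one_apply, map_one, mul_one] at hk hl
  rw [hB, ← f.sum_comp, Fintype.sum_sum_type] at hk
  rw [Nat.card_eq_fintype_card] at hl
  have hA0 : (Fintype.card A : ℂ) ≠ 0 := Nat.cast_ne_zero.2 Fintype.card_ne_zero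
  have hk' : (2 * (Fintype.card A : ℂ))⁻¹ * (∑ a : A, χ (a : W) + ∑ a : A, χ (t * a)) = k := hk
  push_cast
  rw [← hk', ← hl]
  field_simp
  ring

/-- The square of an average is at most the average of the squares. -/
theorem norm_avg_sq_le {ι : Type*} (s : Finset ι) (f : ι → ℂ) :
    ‖(s.card : ℂ)⁻¹ * ∑ i ∈ s, f i‖ ^ 2 ≤ (s.card : ℝ)⁻¹ * ∑ i ∈ s, ‖f i‖ ^ 2 := by
  rcases s.eq_empty_or_nonempty with rfl | hne
  · simp
  have hc : (0 : ℝ) < s.card := Nat.cast_pos.2 hne.card_pos
  rw [norm_mul, norm_inv, Complex.norm_natCast, mul_pow]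
  have h1 : ‖∑ i ∈ s, f i‖ ^ 2 ≤ (s.card : ℝ) * ∑ i ∈ s, ‖f i‖ ^ 2 :=
    (pow_le_pow_left₀ (norm_nonneg _) (norm_sum_le _ _) 2).trans
      (sq_sum_le_card_mul_sum_sq (f := fun i => ‖f i‖))
  refine (mul_le_mul_of_nonneg_left h1 (by positivity)).trans_eq ?_
  field_simp

/-- The coprime factorisation: if `b⁻¹ t b t` has odd order then `b = a u` with `a` centralised by `t`
and `u` a power of it. -/
theorem exists_centralised {t b : W} (ht : t * t = 1) (hw : ¬ 2 ∣ orderOf (b⁻¹ * (t * b * t))) :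
    ∃ i : ℤ, Commute t (b * (b⁻¹ * (t * b * t)) ^ i) := by
  set w := b⁻¹ * (t * b * t) with hwd
  have hti : t⁻¹ = t := inv_eq_of_mul_eq_one_right ht
  have hconj : t * w * t⁻¹ = w⁻¹ := by
    rw [hwd, mul_inv_rev, inv_inv, mul_inv_rev, mul_inv_rev, hti]
    simp only [mul_assoc, ht, mul_one]
  set r : ℕ := (orderOf w + 1) / 2
  have hr : w ^ (2 * r) = w := by
    rw [show 2 * r = orderOf w + 1 by omega, pow_succ, pow_orderOf_eq_one, one_mul]
  refine ⟨(r : ℤ), ?_⟩
  rw [zpow_natCast]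
  have h1 : t * (b * w ^ r) * t⁻¹ = b * w ^ r := by
    calc t * (b * w ^ r) * t⁻¹ = (t * b * t⁻¹) * (t * w * t⁻¹) ^ r := by rw [conj_pow]; group
      _ = (b * w) * (w ^ r)⁻¹ := by
        rw [hconj, inv_pow, show t * b * t⁻¹ = b * w by rw [hwd, hti, mul_inv_cancel_left]]
      _ = b * w ^ r := by
        nth_rw 1 [← hr]
        rw [two_mul, pow_add]
        group
  exact mul_inv_eq_iff_eq_mul.1 h1

open scoped Classical in
/-- A class function of norm one on the coset `t K` has norm one on `t C_K(t)`. -/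
theorem coset_norm [Fintype W] (K : Subgroup W) [K.Normal] {t : W} (ht : t * t = 1) (hK : ¬ 2 ∣ Nat.card K)
    (F : W → ℝ) (hF : ∀ x g, g ∈ K → F (g * x * g⁻¹) = F x) :
    (Nat.card K : ℝ) * ∑ a ∈ Finset.univ.filter (fun a : W => a ∈ K ∧ Commute t a), F (t * a) =
      ((Finset.univ.filter fun a : W => a ∈ K ∧ Commute t a).card : ℝ) *
        ∑ x ∈ Finset.univ.filter (fun x : W => t * x ∈ K), F x := by
  set A := Finset.univ.filter fun a : W => a ∈ K ∧ Commute t a with hA
  set Kf := Finset.univ.filter fun r : W => r ∈ K with hKf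
  set f : W × W → W := fun p => p.1 * (t * p.2) * p.1⁻¹ with hf
  have hKc : Kf.card = Nat.card K := by
    rw [hKf, ← Fintype.card_subtype, ← Nat.card_eq_fintype_card]
  have hodd : ∀ a ∈ K, ¬ 2 ∣ orderOf a := fun a ha h => hK (h.trans (Subgroup.orderOf_dvd_natCard K ha))
  have hpow : ∀ a ∈ A, (t * a) ^ Nat.card K = t := fun a ha => by
    simp only [hA, Finset.mem_filter, Finset.mem_univ, true_and] at ha
    rw [ha.2.mul_pow]
    have h1 : a ^ Nat.card K = 1 := by
      have := congrArg Subtype.val (pow_card_eq_one' (x := (⟨a, ha.1⟩ : K)))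
      rwa [SubmonoidClass.coe_pow, OneMemClass.coe_one] at this
    obtain ⟨m, hm⟩ : Odd (Nat.card K) := Nat.odd_iff.2 (by omega)
    rw [h1, mul_one, hm, pow_succ, pow_mul, pow_two, ht, one_pow, one_mul]
  have hfib : ∀ p ∈ Kf ×ˢ A, ((Kf ×ˢ A).filter fun x => f x = f p).card = A.card := by
    rintro ⟨r, a⟩ hp
    rw [Finset.mem_product] at hp
    refine (Finset.card_bij (fun d _ => (r * d⁻¹, d * a * d⁻¹)) ?_ ?_ ?_).symm
    · intro d hd
      simp only [hA, Finset.mem_filter, Finset.mem_univ, true_and] at hd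
      have ha := (Finset.mem_filter.1 hp.2).2
      simp only [Finset.mem_filter, Finset.mem_product, hA, hKf, Finset.mem_univ, true_and]
      refine ⟨⟨K.mul_mem (Finset.mem_filter.1 hp.1).2 (K.inv_mem hd.1),
        K.mul_mem (K.mul_mem hd.1 ha.1) (K.inv_mem hd.1), (hd.2.mul_right ha.2).mul_right hd.2.inv_right⟩, ?_⟩
      simp only [hf]
      rw [show t * (d * a * d⁻¹) = d * (t * a) * d⁻¹ by
        rw [← mul_assoc, ← mul_assoc, hd.2.eq]; group]
      group
    · intro d _ d' _ e
      simpa using congrArg Prod.fst e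
    · rintro ⟨r', a'⟩ hx
      simp only [Finset.mem_filter, Finset.mem_product] at hx
      obtain ⟨⟨hr', ha'⟩, he⟩ := hx
      simp only [hf] at he
      have hd : (r'⁻¹ * r) * (t * a) * (r'⁻¹ * r)⁻¹ = t * a' := by
        calc (r'⁻¹ * r) * (t * a) * (r'⁻¹ * r)⁻¹ = r'⁻¹ * (r * (t * a) * r⁻¹) * r' := by group
          _ = t * a' := by rw [← he]; group
      have hcomm : Commute t (r'⁻¹ * r) := by
        have := congrArg (· ^ Nat.card K) hd
        simp only [conj_pow, hpow a hp.2, hpow a' ha'] at this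
        exact (mul_inv_eq_iff_eq_mul.1 this).symm
      refine ⟨r'⁻¹ * r, ?_, ?_⟩
      · simp only [hA, Finset.mem_filter, Finset.mem_univ, true_and]
        exact ⟨K.mul_mem (K.inv_mem (Finset.mem_filter.1 hr').2) (Finset.mem_filter.1 hp.1).2, hcomm⟩
      · refine Prod.ext (show r * (r'⁻¹ * r)⁻¹ = r' by group) (show (r'⁻¹ * r) * a * (r'⁻¹ * r)⁻¹ = a' from ?_)
        refine mul_left_cancel (a := t) ?_
        rw [← hd, ← mul_assoc, ← mul_assoc, hcomm.eq]
        group
  have hsub : (Kf ×ˢ A).image f ⊆ Finset.univ.filter fun x : W => t * x ∈ K := by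
    intro x hx
    obtain ⟨⟨r, a⟩, hp, rfl⟩ := Finset.mem_image.1 hx
    simp only [Finset.mem_product, hA, hKf, Finset.mem_filter, Finset.mem_univ, true_and] at hp ⊢
    simp only [hf]
    have e : t * (r * (t * a) * r⁻¹) = (t * r * t⁻¹) * (a * r⁻¹) := by
      rw [inv_eq_of_mul_eq_one_right ht]; group
    rw [e]
    exact K.mul_mem (‹K.Normal›.conj_mem r hp.1 t) (K.mul_mem hp.2.1 (K.inv_mem hp.1))
  have hAne : A.card ≠ 0 := Finset.card_ne_zero_of_mem (a := (1 : W)) (by simp [hA, K.one_mem])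
  have himg : ((Kf ×ˢ A).image f) = Finset.univ.filter fun x : W => t * x ∈ K := by
    refine Finset.eq_of_subset_of_card_le hsub ?_
    have hc := Finset.card_eq_sum_card_image f (Kf ×ˢ A)
    rw [Finset.card_product, Finset.sum_congr (g := fun _ => A.card) rfl (fun w hw => by
      obtain ⟨p, hp, rfl⟩ := Finset.mem_image.1 hw
      exact hfib p hp), Finset.sum_const, smul_eq_mul] at hc
    have h2 := Nat.eq_of_mul_eq_mul_right (Nat.pos_of_ne_zero hAne) hc
    rw [← h2]
    refine le_of_eq (Finset.card_bij (fun x _ => t * x) ?_ ?_ ?_)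
    · intro x hx; simpa [hKf] using hx
    · intro x _ y _ e; exact mul_left_cancel e
    · intro r hr
      exact ⟨t * r, by simpa [hKf, ← mul_assoc, ht] using hr, by rw [← mul_assoc, ht, one_mul]⟩
  have hs : ∑ p ∈ Kf ×ˢ A, F (f p) = (A.card : ℝ) * ∑ x ∈ (Kf ×ˢ A).image f, F x := by
    rw [Finset.mul_sum, ← Finset.sum_fiberwise_of_maps_to (g := f) fun p hp => Finset.mem_image_of_mem f hp]
    refine Finset.sum_congr rfl fun w hw => ?_
    obtain ⟨p, hp, rfl⟩ := Finset.mem_image.1 hw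
    rw [Finset.sum_congr rfl fun x hx => show F (f x) = F (f p) by rw [(Finset.mem_filter.1 hx).2],
      Finset.sum_const, hfib p hp, nsmul_eq_mul]
  rw [himg] at hs
  rw [← hs, Finset.sum_product, Finset.sum_congr rfl fun r hr => Finset.sum_congr rfl fun a _ =>
    show F (f (r, a)) = F (t * a) from hF _ r (Finset.mem_filter.1 hr).2, Finset.sum_const, hKc, nsmul_eq_mul]

end Cfsg.Agent.SDKeystone.Minus
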