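import Cfsg.Agent.Lib.SDKeystone.Budget.Minus.Avg
import Cfsg.Agent.Lib.CharApp.Clifford

/-!
# Twisting by an extension (helper87)

`π : W →* H` surjective, `ξ` irreducible on `W` and on the kernel.

* `avg_self` : `ξ conj ξ` averages to one;
* `avg_twist`, `avg_twist_zero` : `η ↦ avg π (η conj ξ)` is Gallagher's bijection, zero off `ξ`;
* `mul_avg` : a character that is a multiple of `ξ` on the kernel is `ξ` times its twist.
-/

set_option autoImplicit false
set_option linter.unusedSectionVars false
set_option linter.style.haveILetI false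

open scoped ComplexConjugate

namespace Cfsg.Agent.SDKeystone.Minus

open Cfsg Cfsg.Agent.Char

variable {W H : Type*} [Group W] [Group H] [Fintype W] [Fintype H] (π : W →* H)

theorem avg_zero : avg π (fun _ => 0) = 0 := by
  funext h
  simp [avg]

theorem avg_sum {ι : Type*} (s : Finset ι) (c : ι → ℂ) (F : ι → W → ℂ) (h : H) :
    avg π (fun x => ∑ i ∈ s, c i * F i x) h = ∑ i ∈ s, c i * avg π (F i) h := by
  classical
  unfold avg
  rw [Finset.sum_comm, Finset.mul_sum]
  refine Finset.sum_congr rfl fun i _ => ?_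
  rw [← Finset.mul_sum]
  ring

variable (hπ : Function.Surjective π) {ξ : W → ℂ} (hξ : IsIrrCharacter W ξ)
  (hres : IsIrrCharacter π.ker (fun n : π.ker => ξ n))
include hπ hξ hres

theorem trivOn_comp (β : H → ℂ) : CharApp.TrivOn π.ker (fun x => β (π x)) := fun n => by
  show β (π n) = β (π 1)
  rw [MonoidHom.mem_ker.1 n.2, map_one]

omit hres in
theorem inner_twist (η : W → ℂ) (ρ : H → ℂ) :
    classInner (avg π fun x => η x * conj (ξ x)) ρ = classInner η (ξ * fun x => ρ (π x)) := by
  rw [avg_inner π hπ]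
  simp only [classInner, Pi.mul_apply, map_mul]
  congr 1
  exact Finset.sum_congr rfl fun x _ => by ring

theorem avg_self : (avg π fun x => ξ x * conj (ξ x)) = 1 := by
  classical
  haveI := Fintype.ofFinite (IrrCharacter H)
  haveI := Fintype.ofFinite (IrrCharacter W)
  haveI := Fintype.ofFinite π.ker
  have hcl : IsClassFunction W (fun x => ξ x * conj (ξ x)) := fun x g => by
    show _ * conj _ = _
    rw [IsIrrCharacter.isClassFunction hξ x g]
  refine classFunction_ext (avg_isClass π hπ hcl) (IsIrrCharacter.isClassFunction isIrrCharacter_one) fun ρ => ?_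
  have e1 : IsIrrCharacter W (fun x => (1 : H → ℂ) (π x)) :=
    IsIrrCharacter.comp_surjective isIrrCharacter_one π hπ
  have e2 : IsIrrCharacter W (fun x => (ρ : H → ℂ) (π x)) := IsIrrCharacter.comp_surjective ρ.2 π hπ
  have h := CharApp.gallagher_inner π.ker hξ hres ⟨_, e1⟩ ⟨_, e2⟩
    (trivOn_comp π hπ hξ hres 1) (trivOn_comp π hπ hξ hres ρ)
  have e3 : (ξ * fun x => (1 : H → ℂ) (π x)) = ξ := funext fun x => mul_one _
  rw [e3] at h
  rw [inner_twist π hπ hξ, h, classInner_irr isIrrCharacter_one ρ.2]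
  refine if_congr ⟨fun e => funext fun y => ?_, fun e => Subtype.ext ?_⟩ rfl rfl
  · obtain ⟨x, rfl⟩ := hπ y
    exact congrFun (congrArg Subtype.val e) x
  · funext x
    exact congrFun e (π x)

theorem twist_comp (β : H → ℂ) : (avg π fun x => ξ x * β (π x) * conj (ξ x)) = β := by
  haveI := Fintype.ofFinite π.ker
  funext y
  obtain ⟨x, rfl⟩ := hπ y
  have h := avg_comp π β (fun x => ξ x * conj (ξ x)) x
  rw [avg_self π hπ hξ hres, Pi.one_apply, mul_one] at h
  rw [← h]
  congr 1
  funext x
  ring

/-- Gallagher: a constituent over `ξ` is `ξ β`. -/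
theorem avg_twist [Fintype π.ker] {η : W → ℂ} (hη : IsIrrCharacter W η)
    (h : classInner (fun n : π.ker => η n) (fun n : π.ker => ξ n) ≠ 0) :
    ∃ β : H → ℂ, IsIrrCharacter H β ∧ (∀ x, η x = ξ x * β (π x)) ∧
      (avg π fun x => η x * conj (ξ x)) = β := by
  obtain ⟨β0, hβ0, ht, rfl⟩ := CharApp.gallagher_exhaustive π.ker hξ hres hη h
  obtain ⟨β, hβ, hb⟩ := exists_deflate π hπ hβ0 fun x hx => ht ⟨x, MonoidHom.mem_ker.2 hx⟩
  refine ⟨β, hβ, fun x => by rw [Pi.mul_apply, hb], ?_⟩
  rw [← twist_comp π hπ hξ hres β]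
  congr 1
  funext x
  rw [Pi.mul_apply, hb]

theorem avg_twist_zero [Fintype π.ker] {η : W → ℂ} (hη : IsIrrCharacter W η)
    (h : classInner (fun n : π.ker => η n) (fun n : π.ker => ξ n) = 0) :
    (avg π fun x => η x * conj (ξ x)) = 0 := by
  classical
  haveI := Fintype.ofFinite (IrrCharacter H)
  have hcl : IsClassFunction W (fun x => η x * conj (ξ x)) := fun x g => by
    show _ * conj _ = _
    rw [IsIrrCharacter.isClassFunction hη x g, IsIrrCharacter.isClassFunction hξ x g]
  refine eq_zero_of_forall_classInner_irr (avg_isClass π hπ hcl) fun ρ => ?_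
  rw [inner_twist π hπ hξ]
  refine classInner_irr_of_ne hη (CharApp.gallagher_irr π.ker hξ hres
    (IsIrrCharacter.comp_surjective ρ.2 π hπ) (trivOn_comp π hπ hξ hres ρ)) fun e => ?_
  have e' : (fun n : π.ker => η n) = (ρ : H → ℂ) 1 • fun n : π.ker => ξ n := funext fun n => by
    rw [e]
    simp [MonoidHom.mem_ker.1 n.2, mul_comm]
  rw [e', classInner_smul_left, classInner_irr_self hres, mul_one] at h
  exact IsIrrCharacter.apply_one_ne_zero ρ.2 h

/-- A character that is a multiple of `ξ` on the kernel is `ξ` times its twist. -/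
theorem mul_avg [Fintype π.ker] {F : W → ℂ} (hF : IsCharacter W F) {e : ℂ}
    (h : ∀ n : π.ker, F n = e * ξ n) (x : W) :
    F x = ξ x * avg π (fun y => F y * conj (ξ y)) (π x) := by
  classical
  haveI := Fintype.ofFinite (IrrCharacter W)
  obtain ⟨c, hc, -⟩ := IsCharacter.decompose hF
  have hsum : ∀ y, F y = ∑ η : IrrCharacter W, (c η : ℂ) * (η : W → ℂ) y := fun y => by
    have := congrFun hc y
    simpa [Finset.sum_apply] using this
  have h0 : ∀ η : IrrCharacter W, c η ≠ 0 →
      classInner (fun n : π.ker => (η : W → ℂ) n) (fun n : π.ker => ξ n) ≠ 0 := by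
    intro η hcη
    obtain ⟨φ, hφ⟩ := CharApp.exists_constituent (π := fun n : π.ker => (η : W → ℂ) n)
      (IsCharacter.restrict (IsIrrCharacter.isCharacter η.2) π.ker)
      (by simpa using IsIrrCharacter.apply_one_ne_zero η.2)
    choose k hk using fun η : IrrCharacter W => IsCharacter.classInner_nat
      (IsCharacter.restrict (IsIrrCharacter.isCharacter η.2) π.ker) (IsIrrCharacter.isCharacter φ.2)
    have hF' : classInner (fun n : π.ker => F n) (φ : π.ker → ℂ) = ((∑ η, c η * k η : ℕ) : ℂ) := by
      have : (fun n : π.ker => F n) = ∑ η : IrrCharacter W, (c η : ℂ) • fun n : π.ker => (η : W → ℂ) n := by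
        funext n
        simp [Finset.sum_apply, hsum]
      rw [this, classInner_sum_left]
      push_cast
      exact Finset.sum_congr rfl fun η _ => by rw [classInner_smul_left, hk]
    have hpos : (∑ η, c η * k η) ≠ 0 := fun e0 => by
      have := Finset.sum_eq_zero_iff.1 e0 η (Finset.mem_univ _)
      rcases mul_eq_zero.1 this with h1 | h1
      · exact hcη h1
      · exact hφ (by rw [hk, h1, Nat.cast_zero])
    rw [show (fun n : π.ker => F n) = e • fun n : π.ker => ξ n from funext fun n => h n,
      classInner_smul_left, classInner_irr hres φ.2] at hF'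
    split_ifs at hF' with hφξ
    · rw [hφξ]; exact hφ
    · rw [mul_zero] at hF'
      exact absurd (Nat.cast_eq_zero.1 hF'.symm) hpos
  have e1 : (fun y => F y * conj (ξ y)) =
      fun y => ∑ η : IrrCharacter W, (c η : ℂ) * ((η : W → ℂ) y * conj (ξ y)) := funext fun y => by
    rw [hsum, Finset.sum_mul]
    exact Finset.sum_congr rfl fun η _ => by ring
  rw [e1, avg_sum, hsum, Finset.mul_sum]
  refine Finset.sum_congr rfl fun η _ => ?_
  by_cases hcη : c η = 0
  · simp [hcη]
  obtain ⟨β, -, hb, hav⟩ := avg_twist π hπ hξ hres η.2 (h0 η hcη)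
  rw [hav, hb]
  ring

end Cfsg.Agent.SDKeystone.Minus
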