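import Cfsg.Agent.Lib.SDKeystone.Budget.Sums
import Cfsg.Agent.Lib.SDKeystone.Budget.Minus.HValue
import Cfsg.Agent.Lib.SDKeystone.Budget.Minus.Twist
import Cfsg.Agent.Lib.SDKeystone.Budget.Minus.Scalar

/-!
# The budget for `δ = -1`, `n = 1`: the average over the invisible part and the twists (helper87)

* `inv0 D s` : the elements of the core in `C(t)` seen trivially at `t` and at `t z`;
* `moved_avg` : the moved part at `t` is its average over `t inv0`;
* `twist_bound` : `(q - 1) |Σ m tw(t)| ≤ 2 Σ⁻ m tw(1)`, up to `q - 1` for the trivial twist.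
-/

set_option autoImplicit false
set_option linter.unusedSectionVars false
set_option linter.style.haveILetI false
set_option maxHeartbeats 1000000

open scoped ComplexConjugate commutatorElement

namespace Cfsg.Agent.SDKeystone.Minus

open Subgroup Cfsg Cfsg.Agent.Char Cfsg.Agent.InvolChar Cfsg.Agent.SDKeystone.Budget

universe u v w

variable {G : Type u} [Group G] [Fintype G] {H : Type v} [Group H] [Fintype H] {X : Type w} [MulAction H X]
  {z t g : G} {C : Subgroup G} [Fintype C] {φ : C →* H} {Z : Subgroup H} {q o : ℕ} {b : IrrCharacter G}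
  (D : Setting X z t g C φ Z 1 q o (-1) b)

/-- The elements of the core in `C(t)` seen trivially at `t` and at `t z`. -/
def inv0 (s : C) : Subgroup C :=
  φ.ker ⊓ centralizer ({D.tC} : Set C) ⊓
    (φ.ker.map C.subtype).comap ((MulAut.conj g).toMonoidHom.comp C.subtype) ⊓
    (φ.ker.map C.subtype).comap (((MulAut.conj g).toMonoidHom.comp C.subtype).comp
      (MulAut.conj s⁻¹).toMonoidHom)

/-- The twist by `ξ`. -/
noncomputable def tw (φ : C →* H) (ξ ψ : C → ℂ) : H → ℂ := avg φ fun x => ψ x * conj (ξ x)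

theorem mem_inv0 {s a : C} :
    a ∈ inv0 D s ↔ φ a = 1 ∧ Commute D.tC a ∧ InvT φ g a ∧ InvT φ g (s⁻¹ * a * s) := by
  rw [inv0, mem_inf, mem_inf, mem_inf, MonoidHom.mem_ker, mem_centralizer_singleton_iff, mem_comap, mem_comap]
  simp only [InvT, MonoidHom.comp_apply, MulEquiv.coe_toMonoidHom, MulAut.conj_apply, inv_inv,
    Subgroup.coe_subtype]
  exact ⟨fun h => ⟨h.1.1.1, h.1.1.2.symm, h.1.2, h.2⟩, fun h => ⟨⟨⟨h.1, h.2.1.eq.symm⟩, h.2.2.1⟩, h.2.2.2⟩⟩

include D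

theorem data : Data X (φ D.tC) (φ D.zC) Z q o := by
  refine ⟨D.line, D.z_bar, fun e => ?_, ?_⟩
  · have h := D.odd_order e
    rw [← Subgroup.orderOf_coe] at h
    exact h (by rw [show ((D.zC : C) : G) = z from rfl, D.z2])
  · obtain ⟨s, hs⟩ := D.tz_conj
    refine isConj_iff.2 ⟨φ s, ?_⟩
    rw [← map_inv, ← map_mul, ← map_mul, ← map_mul]
    exact congrArg φ (Subtype.ext hs)

theorem tC_sq : D.tC * D.tC = 1 := Subtype.ext (by
  show t * t = 1
  rw [← pow_two, ← D.t2, pow_orderOf_eq_one])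

theorem zC_sq : D.zC * D.zC = 1 := Subtype.ext (by
  show z * z = 1
  rw [← pow_two, ← D.z2, pow_orderOf_eq_one])

theorem tC_notMem : φ D.tC ≠ 1 := fun e => D.line.t_notMem (e ▸ Z.one_mem)

theorem b_t_invisible {s : C} (hs : (s : G) * t * (s : G)⁻¹ = t * z) {a : C} (ha : a ∈ inv0 D s) :
    part b D.evenPart (D.tC * a) = (q : ℂ) := by
  obtain ⟨ha1, hat, hg1, hg2⟩ := (mem_inv0 D).1 ha
  have hcf := IsIrrCharacter.isClassFunction b.2
  have key : ∀ c : C, InvT φ g c → (b : G → ℂ) (t * (c : G)) = (q : ℂ) := fun c hc => by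
    obtain ⟨k, hk, e⟩ := hc
    have h := D.b_sect k (D.odd_order hk)
    rw [show φ k = 1 from hk, D.stein_one] at h
    have e' : (k : G) = g * (c : G) * g⁻¹ := e
    rw [e'] at h
    rw [← hcf (t * (c : G)) g, show g * (t * (c : G)) * g⁻¹ = (g * t * g⁻¹) * (g * (c : G) * g⁻¹) by group,
      D.g_t, h]
    push_cast; ring
  have h1 : (b : G → ℂ) ((D.tC * a : C) : G) = (q : ℂ) := key a hg1
  have h2 : (b : G → ℂ) (z * ((D.tC * a : C) : G)) = (q : ℂ) := by
    have e : z * ((D.tC * a : C) : G) = (s : G) * (t * ((s⁻¹ * a * s : C) : G)) * (s : G)⁻¹ := by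
      show z * (t * (a : G)) = (s : G) * (t * ((s : G)⁻¹ * (a : G) * (s : G))) * (s : G)⁻¹
      rw [← mul_assoc z t, (D.le_cent t D.t_mem).eq, ← hs]
      group
    rw [e, hcf]
    exact key _ hg2
  have e1 := (D.apply_eq (D.tC * a)).symm.trans h1
  have e2 := (D.apply_z_mul (D.tC * a)).symm.trans h2
  linear_combination (e1 + e2) / 2

open scoped Classical in
/-- The average of a class function over `t inv0`. -/
noncomputable def tAvg (s : C) (ψ : C → ℂ) : ℂ :=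
  ((Finset.univ.filter fun a : C => a ∈ inv0 D s).card : ℂ)⁻¹ *
    ∑ a ∈ Finset.univ.filter (fun a : C => a ∈ inv0 D s), ψ (D.tC * a)

open scoped Classical in
theorem inflated_t {s a : C} (ha : a ∈ inv0 D s) {ψ : IrrCharacter C}
    (h : IsInflated φ (ψ : C → ℂ)) : (ψ : C → ℂ) (D.tC * a) = (ψ : C → ℂ) D.tC := by
  obtain ⟨ha1, hat, -, -⟩ := (mem_inv0 D).1 ha
  rw [hat.eq]
  exact (trivial_on_iff ψ.2 φ.ker).1 (fun o ho => h o (MonoidHom.mem_ker.1 ho)) D.tC a (MonoidHom.mem_ker.2 ha1)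

open scoped Classical in
/-- The moved part at `t`, averaged over `t inv0`. -/
theorem moved_avg {s : C} (hs : (s : G) * t * (s : G)⁻¹ = t * z) :
    ∑ ψ ∈ D.evenMoved, (mult b C ψ : ℂ) * (ψ : C → ℂ) D.tC =
      ∑ ψ ∈ D.evenMoved, (mult b C ψ : ℂ) * tAvg D s (ψ : C → ℂ) := by
  set A := Finset.univ.filter fun a : C => a ∈ inv0 D s
  have hne : (A.card : ℂ) ≠ 0 :=
    Nat.cast_ne_zero.2 (Finset.card_ne_zero_of_mem (a := (1 : C)) (by simp [A, one_mem]))
  have h : ∀ a ∈ A, ∑ ψ ∈ D.evenMoved, (mult b C ψ : ℂ) * (ψ : C → ℂ) (D.tC * a) =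
      ∑ ψ ∈ D.evenMoved, (mult b C ψ : ℂ) * (ψ : C → ℂ) D.tC := by
    intro a ha
    have ha' : a ∈ inv0 D s := (Finset.mem_filter.1 ha).2
    have e1 := b_t_invisible D hs ha'
    have e2 := b_t_invisible D hs (one_mem (inv0 D s))
    rw [mul_one] at e2
    rw [← e2] at e1
    unfold part at e1
    rw [← Finset.sum_filter_add_sum_filter_not D.evenPart (fun ψ : IrrCharacter C => IsInflated φ (ψ : C → ℂ)),
      ← Finset.sum_filter_add_sum_filter_not D.evenPart (fun ψ : IrrCharacter C => IsInflated φ (ψ : C → ℂ))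
        (fun ψ => (mult b C ψ : ℂ) * (ψ : C → ℂ) D.tC)] at e1
    have e3 : ∑ ψ ∈ D.evenPart.filter (fun ψ : IrrCharacter C => IsInflated φ (ψ : C → ℂ)),
        (mult b C ψ : ℂ) * (ψ : C → ℂ) (D.tC * a) =
        ∑ ψ ∈ D.evenPart.filter (fun ψ : IrrCharacter C => IsInflated φ (ψ : C → ℂ)),
        (mult b C ψ : ℂ) * (ψ : C → ℂ) D.tC :=
      Finset.sum_congr rfl fun ψ hψ => by rw [inflated_t D ha' (Finset.mem_filter.1 hψ).2]
    rw [e3] at e1
    exact add_left_cancel e1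
  unfold tAvg
  simp only [Finset.mul_sum]
  rw [Finset.sum_comm (s := D.evenMoved), Finset.sum_congr (s₁ := A) rfl fun a ha => show
      ∑ ψ ∈ D.evenMoved, (mult b C ψ : ℂ) * ((A.card : ℂ)⁻¹ * (ψ : C → ℂ) (D.tC * a)) =
        (A.card : ℂ)⁻¹ * ∑ ψ ∈ D.evenMoved, (mult b C ψ : ℂ) * (ψ : C → ℂ) D.tC by
    rw [← h a ha, Finset.mul_sum]
    exact Finset.sum_congr rfl fun ψ _ => mul_left_comm _ _ _]
  rw [Finset.sum_const, nsmul_eq_mul, ← mul_assoc, mul_inv_cancel₀ hne, one_mul]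

omit D in
/-- The twist of a character over `ξ` or not over `ξ`. -/
theorem tw_cases (hφ : Function.Surjective φ) {ξ : C → ℂ} (hξ : IsIrrCharacter C ξ)
    (hres : IsIrrCharacter φ.ker (fun n : φ.ker => ξ n)) (ψ : IrrCharacter C) :
    tw φ ξ ψ = 0 ∨ (IsIrrCharacter H (tw φ ξ ψ) ∧ ∀ x, (ψ : C → ℂ) x = ξ x * tw φ ξ ψ (φ x)) := by
  letI := Fintype.ofFinite φ.ker
  by_cases h : classInner (fun n : φ.ker => (ψ : C → ℂ) n) (fun n : φ.ker => ξ n) = 0
  · exact Or.inl (avg_twist_zero φ hφ hξ hres ψ.2 h)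
  · obtain ⟨β, hβ, hb, e⟩ := avg_twist φ hφ hξ hres ψ.2 h
    refine Or.inr ⟨?_, fun x => ?_⟩
    · rw [show tw φ ξ ψ = β from e]; exact hβ
    · rw [show tw φ ξ ψ = β from e]; exact hb x

theorem tw_sign {ξ ψ : C → ℂ} (hξ : ∀ x, ξ (D.zC * x) = ξ x) {ε : ℂ} (hψ : ∀ x, ψ (D.zC * x) = ε * ψ x)
    (y : H) : tw φ ξ ψ (φ D.zC * y) = ε * tw φ ξ ψ y := by
  classical
  letI := Fintype.ofFinite φ.ker
  obtain ⟨x, rfl⟩ := D.surj y
  simp only [tw]
  rw [← map_mul, avg_apply, avg_apply, mul_left_comm, Finset.mul_sum (a := ε)]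
  refine congrArg _ (Finset.sum_congr rfl fun k _ => ?_)
  rw [mul_assoc, hξ, hψ]
  ring

theorem part_tw (ξ : C → ℂ) (S : Finset (IrrCharacter C)) (y : H) :
    avg φ (fun x => part b S x * conj (ξ x)) y = ∑ ψ ∈ S, (mult b C ψ : ℂ) * tw φ ξ ψ y := by
  have e : (fun x => part b S x * conj (ξ x)) =
      fun x => ∑ ψ ∈ S, (mult b C ψ : ℂ) * ((ψ : C → ℂ) x * conj (ξ x)) := funext fun x => by
    rw [part, Finset.sum_mul]
    exact Finset.sum_congr rfl fun ψ _ => mul_assoc _ _ _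
  rw [e, avg_sum]
  rfl

open scoped Classical in
/-- The twisted difference of the parts on the odd part of the torus. -/
theorem tw_sub {ξ : C → ℂ} (y : H) (hy : y ^ o = 1) :
    (∑ ψ ∈ D.evenPart, (mult b C ψ : ℂ) * tw φ ξ ψ y) - ∑ ψ ∈ D.oddPart, (mult b C ψ : ℂ) * tw φ ξ ψ y =
      -stein X (-1) y * conj (avg φ ξ y) := by
  letI := Fintype.ofFinite φ.ker
  rw [← part_tw D, ← part_tw D]
  obtain ⟨x, rfl⟩ := D.surj y
  have hod : ∀ k : φ.ker, ¬ 2 ∣ orderOf (x * (k : C)) := fun k h => by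
    have h1 : φ ((x * (k : C)) ^ o) = 1 := by
      rw [map_pow, map_mul, MonoidHom.mem_ker.1 k.2, mul_one, hy]
    have h2 := D.odd_order h1
    rw [orderOf_pow] at h2
    refine h2 (Nat.dvd_div_of_mul_dvd ?_)
    refine Nat.Coprime.mul_dvd_of_dvd_of_dvd ?_ (Nat.gcd_dvd_left _ _) h
    refine (Nat.prime_two.coprime_iff_not_dvd.2 ?_).symm
    intro h3
    exact (Nat.not_even_iff_odd.2 D.line.o_odd) (even_iff_two_dvd.2 (h3.trans (Nat.gcd_dvd_right _ _)))
  rw [avg_apply, avg_apply, avg_apply, ← mul_sub, ← Finset.sum_sub_distrib, map_mul (starRingEnd ℂ), map_inv₀,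
    map_natCast, mul_left_comm, map_sum]
  refine congrArg _ ?_
  rw [Finset.mul_sum]
  refine Finset.sum_congr rfl fun k _ => ?_
  rw [← sub_mul]
  congr 1
  rw [← D.apply_z_mul, D.b_sect _ (hod k), map_mul, MonoidHom.mem_ker.1 k.2, mul_one]

/-- `ε` for the trivial and for a moved twist. -/
structure IsTwist (φ : C →* H) (ξ : C → ℂ) (ε : ℕ) : Prop where
  irr : IsIrrCharacter C ξ
  res : IsIrrCharacter φ.ker (fun n : φ.ker => ξ n)
  avg : ∀ y, Minus.avg φ ξ y = (ε : ℂ)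

omit D in
theorem isTwist_one (hφ : Function.Surjective φ) : IsTwist φ (1 : C → ℂ) 1 := by
  classical
  letI := Fintype.ofFinite φ.ker
  refine ⟨isIrrCharacter_one, isIrrCharacter_one, fun y => ?_⟩
  obtain ⟨x, rfl⟩ := hφ y
  rw [avg_apply]
  simp only [Pi.one_apply, Finset.sum_const, Finset.card_univ, nsmul_eq_mul, mul_one, Nat.cast_one,
    ← Nat.card_eq_fintype_card]
  exact inv_mul_cancel₀ (Nat.cast_ne_zero.2 Nat.card_pos.ne')

omit D in
theorem isTwist_moved (hφ : Function.Surjective φ) {ξ : C → ℂ} (hξ : IsIrrCharacter C ξ)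
    (hres : IsIrrCharacter φ.ker (fun n : φ.ker => ξ n)) (hm : ¬ IsInflated φ ξ) : IsTwist φ ξ 0 := by
  classical
  letI := Fintype.ofFinite φ.ker
  refine ⟨hξ, hres, fun y => ?_⟩
  have h0 : classInner (fun n : φ.ker => ξ n) (fun n : φ.ker => (1 : C → ℂ) n) = 0 := by
    refine classInner_irr_of_ne hres isIrrCharacter_one fun e => hm fun x hx => ?_
    have h1 := congrFun e ⟨x, MonoidHom.mem_ker.2 hx⟩
    have h2 := congrFun e 1
    simp only [Pi.one_apply, OneMemClass.coe_one] at h1 h2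
    rw [h1, h2]
  have h := congrFun (avg_twist_zero φ hφ isIrrCharacter_one isIrrCharacter_one hξ h0) y
  simp only [Pi.one_apply, map_one, mul_one, Pi.zero_apply] at h
  rw [Nat.cast_zero]
  exact h

open scoped Classical in
/-- The fixed spaces of the twists: the even ones exceed the odd ones by `ε`. -/
theorem tw_fix {ξ : C → ℂ} {ε : ℕ} (hξ : IsTwist φ ξ ε) :
    (∑ ψ ∈ D.evenPart, (mult b C ψ : ℂ) * (data D).torusFix (tw φ ξ ψ)) -
      ∑ ψ ∈ D.oddPart, (mult b C ψ : ℂ) * (data D).torusFix (tw φ ξ ψ) = (ε : ℂ) := by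
  set Dd := data D
  set T0 := Finset.univ.filter fun y : H => y ∈ centralizer ({φ D.tC} : Set H) ∧ y ^ o = 1 with hT0
  have hlin : ∀ S : Finset (IrrCharacter C), ∑ ψ ∈ S, (mult b C ψ : ℂ) * Dd.torusFix (tw φ ξ ψ) =
      (o : ℂ)⁻¹ * ∑ y ∈ T0, ∑ ψ ∈ S, (mult b C ψ : ℂ) * tw φ ξ ψ y := fun S => by
    simp only [Data.torusFix, Finset.mul_sum]
    rw [Finset.sum_comm]
    exact Finset.sum_congr rfl fun y _ => Finset.sum_congr rfl fun ψ _ => by ring
  rw [hlin, hlin, ← mul_sub, ← Finset.sum_sub_distrib,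
    Finset.sum_congr rfl fun y hy => tw_sub D y (Finset.mem_filter.1 hy).2.2]
  simp only [hξ.avg, Complex.conj_natCast]
  rw [← Finset.sum_mul, ← mul_assoc]
  refine (congrArg (· * (ε : ℂ)) ?_).trans (one_mul _)
  have hone : (1 : H) ∈ T0 := by simp [hT0, one_mem]
  have hfix : ∀ y ∈ T0.erase 1, -stein X (-1) y = (-1 : ℂ) := fun y hy => by
    obtain ⟨h1, h2⟩ := (Finset.mem_filter.1 (Finset.mem_of_mem_erase hy)).2
    have hy1 := Finset.ne_of_mem_erase hy
    have hnZ : y ∉ Z := fun hZ => by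
      rcases Dd.mem_Z.1 hZ with e | e
      · exact hy1 e
      · rw [e] at h2
        have h3 : φ D.zC ^ o = φ D.zC := by
          obtain ⟨m, hm⟩ := D.line.o_odd
          exact (congrArg (φ D.zC ^ ·) hm).trans (by simp only [pow_succ, pow_mul, pow_two, Dd.z_sq, one_pow, one_mul])
        exact Dd.z_ne (h3.symm.trans h2)
    rw [stein, WLine.fix, D.line.torus_fix y h1 hnZ]
    push_cast; ring
  have hcard : T0.card = o := by
    letI := Fintype.ofFinite (centralizer ({φ D.tC} : Set H))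
    letI := Fintype.ofFinite Dd.torus.oddSub
    refine Eq.trans ?_ Dd.torus.card_oddSub
    rw [Nat.card_eq_fintype_card, ← Finset.card_univ]
    symm
    refine Finset.card_bij (fun y _ => ((y : centralizer ({φ D.tC} : Set H)) : H)) (fun y _ => ?_)
      (fun y _ y' _ e => Subtype.ext (Subtype.ext e)) (fun y hy => ?_)
    · simp only [hT0, Finset.mem_filter, Finset.mem_univ, true_and]
      exact ⟨(y : centralizer ({φ D.tC} : Set H)).2, by
        rw [← Subgroup.coe_pow, Dd.torus.mem_oddSub.1 y.2, Subgroup.coe_one]⟩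
    · simp only [hT0, Finset.mem_filter, Finset.mem_univ, true_and] at hy
      exact ⟨⟨⟨y, hy.1⟩, Dd.torus.mem_oddSub.2 (Subtype.ext hy.2)⟩, Finset.mem_univ _, rfl⟩
  rw [← Finset.add_sum_erase _ _ hone, Finset.sum_congr rfl hfix, Finset.sum_const, Finset.card_erase_of_mem hone,
    hcard, D.stein_one, nsmul_eq_mul]
  have ho := Dd.o_three
  have hq : (q : ℂ) + 1 = 2 * (o : ℂ) := by exact_mod_cast Dd.q_eq
  rw [Nat.cast_sub (by omega), inv_mul_eq_iff_eq_mul₀ (Nat.cast_ne_zero.2 (by omega))]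
  push_cast
  linear_combination hq

open scoped Classical in
/-- The twisted inequality. -/
theorem twist_bound (hS : SmallH (φ D.tC) Z q) {ξ : C → ℂ} {ε : ℕ} (hξ : IsTwist φ ξ ε)
    (hev : ∀ x, ξ (D.zC * x) = ξ x) :
    ((q : ℝ) - 1) * ‖∑ ψ ∈ D.evenPart, (mult b C ψ : ℂ) * tw φ ξ ψ (φ D.tC)‖ ≤
      2 * ∑ ψ ∈ D.oddPart, (mult b C ψ : ℝ) * (tw φ ξ ψ 1).re + ((q : ℝ) - 1) * ε := by
  letI := Fintype.ofFinite (centralizer ({φ D.tC} : Set H))
  set Dd := data D
  have hE : ∀ ψ ∈ D.evenPart, ∃ P : ℕ, Dd.torusFix (tw φ ξ ψ) = P ∧ ‖tw φ ξ ψ (φ D.tC)‖ ≤ P := by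
    intro ψ hψ
    rcases tw_cases D.surj hξ.irr hξ.res ψ with h | ⟨h, -⟩
    · exact ⟨0, by simp [Data.torusFix, h], by simp [h]⟩
    · refine Dd.even_le hS h fun y => ?_
      rw [tw_sign D hev (ε := 1) (fun x => by rw [(Finset.mem_filter.1 hψ).2.1 x, one_mul]) y, one_mul]
  have hO : ∀ ψ ∈ D.oddPart, ∃ P d : ℕ, Dd.torusFix (tw φ ξ ψ) = P ∧ (tw φ ξ ψ 1).re = d ∧
      (q - 1) * P ≤ 2 * d := by
    intro ψ hψ
    rcases tw_cases D.surj hξ.irr hξ.res ψ with h | ⟨h, -⟩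
    · exact ⟨0, 0, by simp [Data.torusFix, h], by simp [h], le_rfl⟩
    · obtain ⟨P, d, h1, h2, h3⟩ := Dd.odd_le hS h fun y => by
        rw [tw_sign D hev (ε := -1) (fun x => by rw [D.odd_smul (Finset.mem_filter.1 hψ).2.1 x, neg_one_mul]) y,
          neg_one_mul]
      exact ⟨P, d, h1, by rw [h2, Complex.natCast_re], h3⟩
  choose! P hP hPle using hE
  choose! P' d hP' hd hPd using hO
  have hfix := tw_fix D hξ
  rw [Finset.sum_congr rfl fun ψ hψ => by rw [hP ψ hψ], Finset.sum_congr (s₁ := D.oddPart) rfl fun ψ hψ => by rw [hP' ψ hψ]]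
    at hfix
  have hfix' : (∑ ψ ∈ D.evenPart, (mult b C ψ : ℝ) * P ψ) = (∑ ψ ∈ D.oddPart, (mult b C ψ : ℝ) * P' ψ) + ε := by
    have h := congrArg Complex.re hfix
    simp only [Complex.sub_re, Complex.re_sum, Complex.mul_re, Complex.natCast_re, Complex.natCast_im,
      mul_zero, sub_zero] at h
    linarith
  have hq : (1 : ℝ) ≤ q := by exact_mod_cast (show 1 ≤ q by have := D.line.three_le; omega)
  calc ((q : ℝ) - 1) * ‖∑ ψ ∈ D.evenPart, (mult b C ψ : ℂ) * tw φ ξ ψ (φ D.tC)‖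
      ≤ ((q : ℝ) - 1) * ∑ ψ ∈ D.evenPart, (mult b C ψ : ℝ) * P ψ := by
        refine mul_le_mul_of_nonneg_left ((norm_sum_le _ _).trans (Finset.sum_le_sum fun ψ hψ => ?_))
          (by linarith)
        rw [norm_mul, Complex.norm_natCast]
        exact mul_le_mul_of_nonneg_left (hPle ψ hψ) (Nat.cast_nonneg _)
    _ = (∑ ψ ∈ D.oddPart, (mult b C ψ : ℝ) * (((q : ℝ) - 1) * P' ψ)) + ((q : ℝ) - 1) * ε := by
        rw [hfix', mul_add, Finset.mul_sum]
        exact congrArg (· + _) (Finset.sum_congr rfl fun ψ _ => by ring)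
    _ ≤ _ := by
        rw [Finset.mul_sum]
        refine add_le_add (Finset.sum_le_sum fun ψ hψ => ?_) le_rfl
        rw [hd ψ hψ, mul_left_comm (2 : ℝ)]
        refine mul_le_mul_of_nonneg_left ?_ (Nat.cast_nonneg _)
        have h := hPd ψ hψ
        rw [← Nat.cast_one, ← Nat.cast_sub (by exact_mod_cast hq)]
        exact_mod_cast h

open scoped Classical in
/-- The twisted degrees agree. -/
theorem tw_deg {ξ : C → ℂ} {ε : ℕ} (hξ : IsTwist φ ξ ε) :
    (∑ ψ ∈ D.evenPart, (mult b C ψ : ℂ) * tw φ ξ ψ 1) - ∑ ψ ∈ D.oddPart, (mult b C ψ : ℂ) * tw φ ξ ψ 1 =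
      (q : ℂ) * ε := by
  rw [tw_sub D 1 (one_pow o), hξ.avg, D.stein_one, Complex.conj_natCast]
  push_cast; ring

end Cfsg.Agent.SDKeystone.Minus
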