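import Cfsg.Agent.Lib.SDKeystone.Budget.Minus.Torus
import Cfsg.Agent.Lib.SDKeystone.Budget.Minus.Avg
import Cfsg.Agent.Lib.SDKeystone.Budget.Setting

/-!
# The irreducible characters of `C₀ / O` at the torus, `δ = -1`, `n = 1` (helper87)

* `SmallH` : what is used about `H ≅ GU₂(q) / O(centre)` beyond `Line`;
* `torus` : the torus; `torusFix` : the dimension of the fixed space of its odd part;
* `even_le` : `|ρ(t)| ≤ torusFix ρ` for `ρ` trivial at `z`;
* `odd_le` : `(q - 1) torusFix ρ ≤ 2 ρ(1)` for `ρ` faithful at `z`;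
* `even_gain` : `(q - 1) ρ(t) ≤ 2 ρ(1)` with slack `q - 1` but for `ρ(1) = q - 1`, `ρ(t) = 2`.
-/

set_option autoImplicit false
set_option linter.unusedSectionVars false
set_option linter.style.haveILetI false
set_option maxHeartbeats 1000000

open scoped ComplexConjugate

namespace Cfsg.Agent.SDKeystone.Minus

open Subgroup Cfsg Cfsg.Agent.Char Cfsg.Agent.InvolChar

/-- The facts on `H` used by the budget for `δ = -1`. -/
structure SmallH {H : Type*} [Group H] (t : H) (Z : Subgroup H) (q : ℕ) : Prop where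
  inv : ∀ x ∈ centralizer ({t} : Set H), ∃ h : H, h * x * h⁻¹ * x ∈ Z
  lin : ∀ ρ : IrrCharacter H, (ρ : H → ℂ) 1 = 1 → (ρ : H → ℂ) t = 1 → ∀ x, (ρ : H → ℂ) x = 1
  small : ∀ ρ : IrrCharacter H, charDegree (ρ : H → ℂ) < q - 1 → charDegree (ρ : H → ℂ) = 1
  root : ∀ ρ : IrrCharacter H, charDegree (ρ : H → ℂ) ≤ q + 1 ∨ q - 1 ∣ charDegree (ρ : H → ℂ)

/-- A sum of signs is an integer of the parity of the number of terms. -/
theorem sign_sum_parity {ι : Type*} (s : Finset ι) (f : ι → ℂ) (h : ∀ i ∈ s, f i = 1 ∨ f i = -1) :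
    ∃ N : ℤ, ∑ i ∈ s, f i = (N : ℂ) ∧ N % 2 = (s.card : ℤ) % 2 := by
  classical
  induction s using Finset.induction_on with
  | empty => exact ⟨0, by simp⟩
  | insert a s ha ih =>
    obtain ⟨N, hN, hp⟩ := ih fun i hi => h i (Finset.mem_insert_of_mem hi)
    rcases h a (Finset.mem_insert_self a s) with e | e
    · refine ⟨N + 1, by rw [Finset.sum_insert ha, hN, e]; push_cast; ring, ?_⟩
      rw [Finset.card_insert_of_notMem ha]; push_cast; omega
    · refine ⟨N - 1, by rw [Finset.sum_insert ha, hN, e]; push_cast; ring, ?_⟩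
      rw [Finset.card_insert_of_notMem ha]; push_cast; omega

/-- The numerical data of the line in the case `δ = -1`, `n = 1`. -/
structure Data {H : Type*} [Group H] (X : Type*) [MulAction H X] (t z : H) (Z : Subgroup H) (q o : ℕ) :
    Prop where
  line : Budget.Line H X t Z 1 q o (-1)
  z_mem : z ∈ Z
  z_ne : z ≠ 1
  tz : IsConj t (t * z)

variable {H : Type*} [Group H] [Fintype H] {X : Type*} [MulAction H X] {t z : H} {Z : Subgroup H}
  {q o : ℕ} (D : Data X t z Z q o)
include D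

namespace Data

theorem q_eq : q + 1 = 2 * o := by
  have h := D.line.q_sub
  push_cast at h
  omega

theorem o_three : 3 ≤ o := by
  have h1 := D.q_eq
  have h2 := D.line.three_le
  rcases D.line.o_odd with ⟨m, rfl⟩
  omega

theorem z_sq : z * z = 1 := by
  have h := Subgroup.orderOf_dvd_natCard Z D.z_mem
  rw [D.line.card_Z] at h
  rw [← pow_two]
  exact orderOf_dvd_iff_pow_eq_one.1 (by simpa using h)

theorem mem_Z {ζ : H} : ζ ∈ Z ↔ ζ = 1 ∨ ζ = z := by
  refine ⟨fun h => ?_, fun h => by rcases h with rfl | rfl; exacts [Z.one_mem, D.z_mem]⟩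
  classical
  by_contra hne
  push Not at hne
  have hsub : ({1, z, ζ} : Set H) ⊆ Z := by
    intro x hx
    rcases hx with rfl | rfl | rfl
    exacts [Z.one_mem, D.z_mem, h]
  have h3 : ({1, z, ζ} : Set H).ncard = 3 :=
    Set.ncard_eq_three.2 ⟨1, z, ζ, D.z_ne.symm, hne.1.symm, hne.2.symm, rfl⟩
  have := Set.ncard_le_ncard hsub (Set.toFinite _)
  rw [h3, ← Nat.card_coe_set_eq, show Nat.card (Z : Set H) = 2 from by simpa using D.line.card_Z] at this
  omega

theorem z_comm (h : H) : z * h = h * z := (D.line.central_Z z D.z_mem h).eq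

theorem z_torus : z ∈ centralizer ({t} : Set H) :=
  mem_centralizer_singleton_iff.2 (D.z_comm t)

/-- `z` in the torus. -/
def zT : centralizer ({t} : Set H) := ⟨z, D.z_torus⟩

/-- `t` in the torus. -/
def tT (_D : Data X t z Z q o) : centralizer ({t} : Set H) :=
  ⟨t, mem_centralizer_singleton_iff.2 rfl⟩

theorem torus : Torus (centralizer ({t} : Set H)) D.zT D.tT o := by
  classical
  set T := centralizer ({t} : Set H) with hT
  have hcomm : ∀ x y : T, x * y = y * x := fun x y => Subtype.ext (D.line.torus_comm x x.2 y y.2).eq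
  have ht2 : t * t = 1 := by rw [← pow_two, ← D.line.t_two, pow_orderOf_eq_one]
  have hcard : Nat.card T = 4 * o := by rw [D.line.torus_card]; ring
  have htne : t ≠ z := fun e => D.line.t_notMem (e ▸ D.z_mem)
  refine ⟨hcomm, D.line.o_odd, D.o_three, Subtype.ext D.z_sq, Subtype.ext ht2,
    fun e => D.z_ne (congrArg Subtype.val e),
    fun e => D.line.t_notMem ((show t = 1 from congrArg Subtype.val e) ▸ Z.one_mem),
    fun e => htne (congrArg Subtype.val e), hcard, fun x => ?_⟩
  haveI hn : (Z.subgroupOf T).Normal := ⟨fun a ha b => by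
    have : b * a * b⁻¹ = a := by rw [hcomm b a, mul_inv_cancel_right]
    rwa [this]⟩
  obtain ⟨a, ha, hgen⟩ := D.line.torus_gen
  haveI : IsCyclic (T ⧸ Z.subgroupOf T) := by
    refine ⟨⟨(⟨a, ha⟩ : T), fun y => ?_⟩⟩
    obtain ⟨w, rfl⟩ := QuotientGroup.mk_surjective y
    obtain ⟨i, hi⟩ := hgen w w.2
    refine ⟨-i, ?_⟩
    show ((⟨a, ha⟩ : T) : T ⧸ Z.subgroupOf T) ^ (-i) = (w : T ⧸ Z.subgroupOf T)
    rw [← QuotientGroup.mk_zpow, QuotientGroup.eq, mem_subgroupOf]
    have e : (((⟨a, ha⟩ : T) ^ (-i))⁻¹ * w : T) = w * (⟨a, ha⟩ : T) ^ i := by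
      rw [zpow_neg, inv_inv, hcomm]
    rw [e]
    simpa using hi
  -- the two-part
  set p : T := x ^ o with hp
  have hp4 : p ^ 4 = 1 := by
    rw [hp, ← pow_mul, mul_comm o 4, ← hcard]
    exact pow_card_eq_one'
  set Q := T ⧸ Z.subgroupOf T
  have hQcard : Nat.card Q * 2 = 4 * o := by
    rw [← hcard, card_eq_card_quotient_mul_card_subgroup (Z.subgroupOf T),
      Nat.card_congr (subgroupOfEquivOfLe fun y hy => mem_centralizer_singleton_iff.2
        (D.line.central_Z y hy t).eq).toEquiv, D.line.card_Z]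
    rfl
  have hsq : ∀ u : Q, u ^ 4 = 1 → u ^ 2 = 1 := fun u hu => by
    have h1 : u ^ (2 * o) = 1 := by
      rw [show 2 * o = Nat.card Q by omega]; exact pow_card_eq_one'
    have hg : Nat.gcd 4 (2 * o) = 2 := by
      obtain ⟨m, hm⟩ := D.line.o_odd
      rw [show 4 = 2 * 2 by rfl, Nat.gcd_mul_left, hm]
      rw [show Nat.gcd 2 (2 * m + 1) = 1 from Nat.prime_two.coprime_iff_not_dvd.2 (by omega)]
    rw [← hg]
    exact pow_gcd_eq_one.2 ⟨hu, h1⟩
  have hQ : (p : Q) = 1 ∨ (p : Q) = (D.tT : Q) := by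
    by_contra hne
    push Not at hne
    have h2 : ((p : Q)) ^ 2 = 1 := hsq _ (by rw [← QuotientGroup.mk_pow, hp4, QuotientGroup.mk_one])
    have ht : ((D.tT : T) : Q) ^ 2 = 1 := by
      rw [← QuotientGroup.mk_pow, pow_two, show D.tT * D.tT = 1 from Subtype.ext ht2, QuotientGroup.mk_one]
    have ht1 : ((D.tT : T) : Q) ≠ 1 := fun e =>
      D.line.t_notMem (mem_subgroupOf.1 ((QuotientGroup.eq_one_iff _).1 e))
    have hle := IsCyclic.card_pow_eq_one_le (α := Q) (n := 2) two_pos
    have hsub : ({1, (D.tT : Q), (p : Q)} : Finset Q) ⊆ Finset.univ.filter fun u : Q => u ^ 2 = 1 := by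
      intro u hu
      simp only [Finset.mem_insert, Finset.mem_singleton] at hu
      rcases hu with rfl | rfl | rfl <;> simp [h2, ht]
    have h3 : ({1, (D.tT : Q), (p : Q)} : Finset Q).card = 3 :=
      Finset.card_eq_three.2 ⟨_, _, _, ht1.symm, hne.1.symm, hne.2.symm, rfl⟩
    have := Finset.card_le_card hsub
    omega
  have hZT : ∀ w : T, (w : Q) = 1 → w = 1 ∨ w = D.zT := fun w hw => by
    rcases D.mem_Z.1 (mem_subgroupOf.1 ((QuotientGroup.eq_one_iff w).1 hw)) with e | e
    · exact Or.inl (Subtype.ext e)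
    · exact Or.inr (Subtype.ext e)
  have hP : p = 1 ∨ p = D.zT ∨ p = D.tT ∨ p = D.tT * D.zT := by
    rcases hQ with h | h
    · rcases hZT p h with e | e <;> simp [e]
    · rcases hZT (D.tT⁻¹ * p) (by rw [QuotientGroup.mk_mul, QuotientGroup.mk_inv, h, inv_mul_cancel]) with e | e
      · exact Or.inr (Or.inr (Or.inl (by rw [inv_mul_eq_one] at e; exact e.symm)))
      · exact Or.inr (Or.inr (Or.inr (inv_mul_eq_iff_eq_mul.1 e)))
  have hpp : p * p = 1 := by
    have hz' : D.zT * D.zT = 1 := Subtype.ext D.z_sq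
    have ht' : D.tT * D.tT = 1 := Subtype.ext ht2
    rcases hP with e | e | e | e <;> rw [e]
    · rw [mul_one]
    · exact hz'
    · exact ht'
    · calc D.tT * D.zT * (D.tT * D.zT) = D.tT * (D.zT * D.tT) * D.zT := by group
        _ = D.tT * (D.tT * D.zT) * D.zT := by rw [hcomm D.zT D.tT]
        _ = 1 := by rw [← mul_assoc, ht', one_mul, hz']
  have hpo : p ^ o = p := by
    obtain ⟨m, hm⟩ := D.line.o_odd
    rw [hm, pow_succ, pow_mul, pow_two, hpp, one_pow, one_mul]
  refine ⟨p * x, by rw [Commute.mul_pow (hcomm p x), hpo, ← hp, hpp], ?_⟩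
  have hx : x = p * (p * x) := by rw [← mul_assoc, hpp, one_mul]
  rcases hP with e | e | e | e
  · exact Or.inl (by rw [e] at hx ⊢; simp)
  all_goals rw [e] at hx ⊢
  · exact Or.inr (Or.inl hx)
  · exact Or.inr (Or.inr (Or.inl hx))
  · exact Or.inr (Or.inr (Or.inr hx))

open scoped Classical in
/-- `(1 / o) Σ_{y ∈ T₀} ρ(y)`, the dimension of the fixed space of the odd part of the torus. -/
noncomputable def torusFix (_D : Data X t z Z q o) (ρ : H → ℂ) : ℂ :=
  (o : ℂ)⁻¹ * ∑ y ∈ Finset.univ.filter (fun y : H => y ∈ centralizer ({t} : Set H) ∧ y ^ o = 1), ρ y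

/-- `z` squares to one in the torus. -/
theorem zT_sq : D.zT * D.zT = 1 := Subtype.ext D.z_sq

set_option quotPrecheck false in
local notation "Tor" => centralizer ({t} : Set H)

open scoped Classical in
/-- The multiplicities on the torus: two neighbouring values. -/
structure Shape [Fintype Tor] (f : Tor → ℂ) (ε : ℂ) (m : IrrCharacter Tor → ℕ) (c : ℕ)
    (J : Finset (IrrCharacter Tor)) : Prop where
  expand : ∀ x : Tor, f x = ∑ ν ∈ D.torus.signChars ε, (m ν : ℂ) * (ν : Tor → ℂ) x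
  eq_coef : ∀ ν : IrrCharacter Tor, classInner f (ν : Tor → ℂ) = m ν
  sub : J ⊆ D.torus.signChars ε
  mem : ∀ ν ∈ D.torus.signChars ε, (m ν : ℤ) = c + if ν ∈ J then 1 else 0
  cases : J.card ≤ 2 ∨ 2 * o ≤ J.card + 2 ∨ (2 * o = 6 ∧ J.card = 3)

theorem normalizer_card :
    Nat.card (normalizer ((centralizer ({t} : Set H)) : Set H)) = 8 * o := by
  rw [D.line.torus_norm]; ring

/-- The energy of an irreducible character on the torus outside `Z`. -/
theorem energy_lt [Fintype (centralizer ({t} : Set H))] {ρ : H → ℂ} (hρ : IsIrrCharacter H ρ) :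
    (∑ x : centralizer ({t} : Set H), ‖ρ x‖ ^ 2) - ‖ρ 1‖ ^ 2 - ‖ρ z‖ ^ 2 < 8 * o := by
  classical
  set N := normalizer (((centralizer ({t} : Set H)) : Subgroup H) : Set H)
  let S : Finset H := Finset.univ.filter fun x => x ∈ (centralizer ({t} : Set H)) ∧ x ∉ Z
  have h := ti_energy S N (fun x => ‖ρ x‖ ^ 2) (fun x => sq_nonneg _)
    (fun x g => by rw [IsIrrCharacter.isClassFunction hρ x g]) (by simp [S, Z.one_mem])
    (fun g x hx hgx => by
      simp only [S, Finset.mem_filter, Finset.mem_univ, true_and] at hx hgx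
      exact D.line.torus_ti g x hx.1 hx.2 hgx.1)
  rw [sum_norm_sq hρ] at h
  have hsplit : (∑ x : (centralizer ({t} : Set H)), ‖ρ x‖ ^ 2) = (∑ x ∈ S, ‖ρ x‖ ^ 2) + (‖ρ 1‖ ^ 2 + ‖ρ z‖ ^ 2) := by
    rw [← Finset.sum_subtype (Finset.univ.filter fun x : H => x ∈ (centralizer ({t} : Set H))) (by simp) fun x : H => ‖ρ x‖ ^ 2,
      ← Finset.sum_filter_add_sum_filter_not (Finset.univ.filter fun x : H => x ∈ (centralizer ({t} : Set H))) fun x => x ∈ Z]
    rw [add_comm, Finset.filter_filter, Finset.filter_filter]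
    congr 1
    rw [show (Finset.univ.filter fun x : H => x ∈ (centralizer ({t} : Set H)) ∧ x ∈ Z) = {1, z} from ?_,
      Finset.sum_pair D.z_ne.symm]
    ext x
    simp only [Finset.mem_filter, Finset.mem_univ, true_and, Finset.mem_insert, Finset.mem_singleton]
    exact ⟨fun hx => D.mem_Z.1 hx.2, fun hx => by
      rcases hx with rfl | rfl
      exacts [⟨(Subgroup.one_mem _), Z.one_mem⟩, ⟨D.z_torus, D.z_mem⟩]⟩
  have hNc : (N.index : ℝ) * (8 * o) = (Nat.card H : ℝ) := by
    rw [← N.index_mul_card, D.normalizer_card]; push_cast; ring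
  have hpos : (0 : ℝ) < ‖ρ 1‖ ^ 2 :=
    pow_pos (norm_pos_iff.2 (IsIrrCharacter.apply_one_ne_zero hρ)) 2
  have hi : (0 : ℝ) < N.index := Nat.cast_pos.2 (Nat.pos_of_ne_zero N.index_ne_zero_of_finite)
  have h2 : (N.index : ℝ) * ∑ x ∈ S, ‖ρ x‖ ^ 2 < (N.index : ℝ) * (8 * o) := by linarith
  have h3 := lt_of_mul_lt_mul_left h2 hi.le
  linarith [hsplit]

/-- A generalised character of the torus of sign `ε` at `z` with small energy has two neighbouring
multiplicities. -/
theorem shape_of [Fintype Tor] {f : Tor → ℂ} {ε : ℂ} (hε : ε = 1 ∨ ε = -1)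
    (hnat : ∀ ν : IrrCharacter Tor, ∃ n : ℕ, classInner f (ν : Tor → ℂ) = n)
    (hz : ∀ x, f (D.zT * x) = ε * f x)
    (hlt : (∑ x, ‖f x‖ ^ 2) - 2 * ‖f 1‖ ^ 2 < 8 * o) : ∃ m c J, D.Shape f ε m c J := by
  classical
  letI := Fintype.ofFinite (IrrCharacter Tor)
  choose m hin using hnat
  have hcf : IsClassFunction Tor f := fun g h => by
    rw [D.torus.comm h g, mul_inv_cancel_right]
  have hm : f = ∑ ν : IrrCharacter Tor, (m ν : ℂ) • (ν : Tor → ℂ) := by
    conv_lhs => rw [classFunction_eq_sum hcf]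
    simp only [hin]
  have hoff : ∀ ν : IrrCharacter Tor, ν ∉ D.torus.signChars ε → m ν = 0 := fun ν hν => by
    have e : classInner f (ν : Tor → ℂ) =
        ε * conj ((ν : Tor → ℂ) D.zT) * classInner f (ν : Tor → ℂ) := by
      simp only [classInner, Finset.mul_sum]
      refine Fintype.sum_equiv (Equiv.mulLeft D.zT) _ _ fun x => ?_
      simp only [Equiv.coe_mulLeft, D.torus.apply_mul, map_mul]
      rw [hz]
      rcases D.torus.apply_sign ν D.zT_sq with h | h <;> rcases hε with h' | h' <;>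
        rw [h, h'] <;> simp <;> ring
    rw [hin ν] at e
    have hne : ε * conj ((ν : Tor → ℂ) D.zT) ≠ 1 := fun he => hν (D.torus.mem_signChars.2 (by
      rcases D.torus.apply_sign ν D.zT_sq with h | h <;> rcases hε with h' | h' <;>
        simp [h, h'] at he ⊢ <;> norm_num at he))
    by_contra h0
    exact hne (mul_eq_right₀ (Nat.cast_ne_zero.2 h0) |>.1 e.symm)
  have hexp : ∀ x : Tor, f x = ∑ ν ∈ D.torus.signChars ε, (m ν : ℂ) * (ν : Tor → ℂ) x := fun x => by
    have h := congrFun hm x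
    simp only [Finset.sum_apply, Pi.smul_apply, smul_eq_mul] at h
    rw [h]
    exact (Finset.sum_subset (Finset.subset_univ _) fun ν _ hν => by rw [hoff ν hν, Nat.cast_zero, zero_mul]).symm
  set ι := {ν // ν ∈ D.torus.signChars ε}
  have hk : Fintype.card ι = 2 * o := by rw [Fintype.card_coe]; exact D.torus.card_signChars ε hε
  have hS : f 1 = ((∑ i : ι, m i.1 : ℕ) : ℂ) := by
    have := hexp 1
    simp only [D.torus.apply_one, mul_one] at this
    rw [this, Finset.univ_eq_attach, Finset.sum_attach _ fun ν => m ν]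
    push_cast; rfl
  have hsq : ∑ x, ‖f x‖ ^ 2 = (4 * o : ℝ) * ∑ i : ι, (m i.1 : ℝ) ^ 2 := by
    have h1 : classInner f f = ∑ i : ι, (m i.1 : ℂ) ^ 2 := by
      rw [classInner_eq_sum hcf]
      simp only [hin, Complex.conj_natCast, ← pow_two]
      rw [Finset.univ_eq_attach, Finset.sum_attach _ fun ν => (m ν : ℂ) ^ 2]
      exact (Finset.sum_subset (Finset.subset_univ _) fun ν _ hν => by rw [hoff ν hν]; simp).symm
    rw [classInner_self_eq, D.torus.card] at h1
    have h2 := congrArg Complex.re h1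
    simp only [Complex.ofReal_re, Complex.re_sum] at h2
    have ho : (o : ℝ) ≠ 0 := Nat.cast_ne_zero.2 (by have := D.o_three; omega)
    rw [inv_mul_eq_iff_eq_mul₀ (by push_cast; positivity)] at h2
    rw [h2]
    push_cast
    congr 1
    exact Finset.sum_congr rfl fun i _ => by rw [← Nat.cast_pow, Complex.natCast_re]; push_cast; ring
  have hE : energy (fun i : ι => (m i.1 : ℤ)) < 2 * (Fintype.card ι : ℤ) := by
    rw [hsq, hS, Complex.norm_natCast] at hlt
    rw [energy, hk, ← Int.cast_lt (R := ℝ)]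
    push_cast at hlt ⊢
    nlinarith
  haveI : Nonempty ι := Fintype.card_pos_iff.1 (by have := D.o_three; omega)
  obtain ⟨c, J, hc, ⟨i0, hi0⟩, hJ⟩ := vec_shape _ hE
  have hc0 : 0 ≤ c := hi0 ▸ Int.natCast_nonneg _
  refine ⟨m, c.toNat, J.map ⟨Subtype.val, Subtype.val_injective⟩,
    ⟨hexp, hin, fun ν hν => ?_, fun ν hν => ?_, ?_⟩⟩
  · obtain ⟨i, -, rfl⟩ := Finset.mem_map.1 hν
    exact i.2
  · rw [hc ⟨ν, hν⟩, Int.toNat_of_nonneg hc0]
    simp [hν]
  · rw [Finset.card_map]
    have := shape_cases (k := Fintype.card ι) (j := J.card) (by rw [hk]; have := D.o_three; obtain ⟨w, hw⟩ := D.line.o_odd; omega)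
      (Finset.card_le_univ J) hJ
    rw [hk] at this
    exact this

/-- An irreducible character of sign `ε` at `z`. -/
theorem shape [Fintype Tor] {ρ : H → ℂ} (hρ : IsIrrCharacter H ρ) {ε : ℂ}
    (hε : ε = 1 ∨ ε = -1) (hz : ∀ x, ρ (z * x) = ε * ρ x) :
    ∃ m c J, D.Shape (fun x : Tor => ρ x) ε m c J := by
  refine D.shape_of hε (fun ν => IsCharacter.classInner_nat
    (IsCharacter.restrict (IsIrrCharacter.isCharacter hρ) _) (IsIrrCharacter.isCharacter ν.2))
    (fun x => hz x) ?_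
  have hlt := D.energy_lt hρ
  have hzv : ρ z = ε * ρ 1 := by simpa using hz 1
  rw [hzv, norm_mul, show ‖ε‖ = 1 by rcases hε with h | h <;> simp [h], one_mul] at hlt
  simp only [OneMemClass.coe_one]
  linarith

end Data

end Cfsg.Agent.SDKeystone.Minus
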