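import Cfsg.Agent.Lib.SDKeystone.Budget.Minus.Frame
import Cfsg.Agent.Lib.SDKeystone.Budget.Minus.Action
import Cfsg.Agent.Lib.FullyRamified.Basic

/-!
# The budget for `δ = -1`, `n = 1`: invariant constituents (helper87)

* `rigid_of_trivial` : rigidity from `t` scalar and `inv0` trivial;
* `Ext`, `class_bound` : the constituents over an extendible `κ`, bounded together;
* `invariant_bound` : a constituent over an invariant `κ` with multiplicity at least two.
-/

set_option autoImplicit false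
set_option linter.unusedSectionVars false
set_option linter.style.haveILetI false
set_option maxHeartbeats 1000000

open scoped ComplexConjugate commutatorElement

namespace Cfsg.Agent.SDKeystone.Minus

open Subgroup Cfsg Cfsg.Agent.Char Cfsg.Agent.InvolChar Cfsg.Agent.SDKeystone.Budget

universe u v w

variable {G : Type u} [Group G] [Fintype G] {H : Type v} [Group H] [Fintype H] {X : Type w} [MulAction H X]
  {z t g : G} {C : Subgroup G} [Fintype C] {φ : C →* H} {Z : Subgroup H} {q o : ℕ} {b : IrrCharacter G}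
  (D : Setting X z t g C φ Z 1 q o (-1) b)
include D

/-- What is used to conclude that a constituent is rigid. -/
theorem rigid_of_trivial {s : C} (hs : (s : G) * t * (s : G)⁻¹ = t * z) {ψ : C → ℂ}
    (h1 : ∀ x : C, φ x = 1 → ψ ⁅x, D.tC⁆ = ψ 1) (h2 : ∀ a ∈ inv0 D s, ψ a = ψ 1) : D.IsRigid ψ := by
  refine ⟨h1, fun x hx => h2 x ((mem_inv0 D).2 ⟨hx.1, ?_, ?_, ?_⟩)⟩
  · exact (mem_centralizer_singleton_iff.1 hx.2.1).symm
  · have h := hx.2.2 1 (Or.inl (by simp))
    simpa using h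
  · have h := hx.2.2 s⁻¹ (Or.inr ?_)
    · simpa using h
    · have hzt := D.le_cent t D.t_mem
      have hzs := D.le_cent s s.2
      rw [Subgroup.coe_inv, inv_inv]
      calc (s : G)⁻¹ * t * (s : G) = (s : G)⁻¹ * (t * z) * z * (s : G) := by
            rw [mul_assoc (s : G)⁻¹ (t * z) z, mul_assoc t z z, show z * z = 1 by
              rw [← pow_two, ← D.z2, pow_orderOf_eq_one], mul_one]
        _ = (s : G)⁻¹ * ((s : G) * t * (s : G)⁻¹) * ((s : G) * z) := by
            rw [hs, mul_assoc _ z, hzs.eq]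
        _ = t * z := by group

open scoped Classical in
theorem card_inv0 (s : C) : (Finset.univ.filter fun a : C => a ∈ inv0 D s).card ≠ 0 :=
  Finset.card_ne_zero_of_mem (a := (1 : C)) (by simp [one_mem])

/-- `ψ` lies over the restriction of the even extension `ξ`. -/
structure Ext (ψ ξ : C → ℂ) : Prop where
  irr : IsIrrCharacter C ξ
  res : IsIrrCharacter φ.ker (fun n : φ.ker => ξ n)
  even : ∀ x, ξ (D.zC * x) = ξ x
  hover : haveI := Fintype.ofFinite φ.ker
    classInner (fun n : φ.ker => ψ n) (fun n : φ.ker => ξ n) ≠ 0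

theorem Ext.moved {ψ : IrrCharacter C} {ξ : C → ℂ} (hψ : ¬ IsInflated φ (ψ : C → ℂ))
    (h : Ext D (ψ : C → ℂ) ξ) : IsTwist φ ξ 0 := by
  classical
  letI := Fintype.ofFinite φ.ker
  refine isTwist_moved D.surj h.irr h.res fun hξ => hψ ?_
  have h1 : (fun n : φ.ker => ξ n) = ξ 1 • (1 : φ.ker → ℂ) := funext fun n => by
    simp [hξ _ (MonoidHom.mem_ker.1 n.2)]
  have h2 := h.hover
  rw [h1, classInner_smul_right] at h2
  have h3 := CharApp.trivOn_of_constituent_one φ.ker ψ.2 (right_ne_zero_of_mul h2)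
  exact fun x hx => h3 ⟨x, MonoidHom.mem_ker.2 hx⟩

open scoped Classical in
/-- The constituents over `κ = ξ|_O`. -/
noncomputable def overSet (κ : φ.ker → ℂ) : Finset (IrrCharacter C) :=
  haveI := Fintype.ofFinite φ.ker
  D.evenMoved.filter fun ψ => classInner (fun n : φ.ker => (ψ : C → ℂ) n) κ ≠ 0

open scoped Classical in
/-- The bound for all the constituents over an extendible `κ`. -/
theorem class_bound (hS : SmallH (φ D.tC) Z q) {s : C} (hs : (s : G) * t * (s : G)⁻¹ = t * z) {ξ : C → ℂ}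
    (hξ : IsTwist φ ξ 0) (hev : ∀ x, ξ (D.zC * x) = ξ x) :
    ((q : ℝ) - 1) * ‖∑ ψ ∈ overSet D (fun n : φ.ker => ξ n), (mult b C ψ : ℂ) * tAvg D s (ψ : C → ℂ)‖ ≤
        2 * ∑ ψ ∈ overSet D (fun n : φ.ker => ξ n), (mult b C ψ : ℝ) * (charDegree (ψ : C → ℂ) : ℝ) ∧
      (((q : ℝ) - 1) * ‖∑ ψ ∈ overSet D (fun n : φ.ker => ξ n), (mult b C ψ : ℂ) * tAvg D s (ψ : C → ℂ)‖ =
        2 * ∑ ψ ∈ overSet D (fun n : φ.ker => ξ n), (mult b C ψ : ℝ) * (charDegree (ψ : C → ℂ) : ℝ) →
        ∀ ψ ∈ overSet D (fun n : φ.ker => ξ n), D.IsRigid (ψ : C → ℂ)) := by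
  letI := Fintype.ofFinite φ.ker
  set S := overSet D (fun n : φ.ker => ξ n) with hSdef
  set A := Finset.univ.filter fun a : C => a ∈ inv0 D s with hA
  set η := tAvg D s ξ with hη
  obtain ⟨d, hd0, hd⟩ := IsIrrCharacter.exists_degree hξ.irr
  -- off the class the twist vanishes
  have hoff : ∀ ψ ∈ D.evenPart, ψ ∉ S → tw φ ξ ψ = 0 := fun ψ hψ hn => by
    refine avg_twist_zero φ D.surj hξ.irr hξ.res ψ.2 ?_
    by_contra h
    refine hn (Finset.mem_filter.2 ⟨Finset.mem_filter.2 ⟨hψ, fun hinf => h ?_⟩, h⟩)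
    have e : (fun n : φ.ker => (ψ : C → ℂ) n) = (ψ : C → ℂ) 1 • (1 : φ.ker → ℂ) := funext fun n => by
      simp [hinf _ (MonoidHom.mem_ker.1 n.2)]
    rw [e, classInner_smul_left, classInner_irr_of_ne isIrrCharacter_one hξ.res, mul_zero]
    intro e1
    have h1 := hξ.avg 1
    rw [Nat.cast_zero, ← map_one φ, avg_apply] at h1
    simp only [one_mul] at h1
    rw [Finset.sum_congr rfl fun n _ => (congrFun e1 n).symm] at h1
    simp [Nat.card_eq_fintype_card] at h1
    exact (Fintype.card_pos_iff.2 ⟨(⟨1, map_one φ⟩ : {x : C // φ x = 1})⟩).ne' h1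
  have hin : ∀ ψ ∈ S, (∀ x, (ψ : C → ℂ) x = ξ x * tw φ ξ ψ (φ x)) ∧ IsIrrCharacter H (tw φ ξ ψ) := by
    intro ψ hψ
    obtain ⟨β, hβ, hb, e⟩ := avg_twist φ D.surj hξ.irr hξ.res ψ.2 (Finset.mem_filter.1 hψ).2
    rw [show tw φ ξ ψ = β from e]
    exact ⟨hb, hβ⟩
  have hsub : S ⊆ D.evenPart := fun ψ hψ => (Finset.mem_filter.1 (Finset.mem_filter.1 hψ).1).1
  have htAvg : ∀ ψ ∈ S, tAvg D s (ψ : C → ℂ) = η * tw φ ξ ψ (φ D.tC) := fun ψ hψ => by
    rw [hη, tAvg, tAvg, mul_assoc, Finset.sum_mul]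
    refine congrArg _ (Finset.sum_congr rfl fun a ha => ?_)
    rw [(hin ψ hψ).1, map_mul, ((mem_inv0 D).1 (Finset.mem_filter.1 ha).2).1, mul_one]
  have hT : ∑ ψ ∈ S, (mult b C ψ : ℂ) * tAvg D s (ψ : C → ℂ) =
      η * ∑ ψ ∈ D.evenPart, (mult b C ψ : ℂ) * tw φ ξ ψ (φ D.tC) := by
    rw [← Finset.sum_subset hsub (f := fun ψ => (mult b C ψ : ℂ) * tw φ ξ ψ (φ D.tC))
      fun ψ hψ hn => by simp [hoff ψ hψ hn], Finset.mul_sum]
    exact Finset.sum_congr rfl fun ψ hψ => by rw [htAvg ψ hψ]; ring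
  set R := ∑ ψ ∈ D.oddPart, (mult b C ψ : ℝ) * (tw φ ξ ψ 1).re with hR
  have hdeg : ∑ ψ ∈ S, (mult b C ψ : ℝ) * (charDegree (ψ : C → ℂ) : ℝ) = (d : ℝ) * R := by
    have e := congrArg Complex.re (tw_deg D hξ)
    rw [Nat.cast_zero, mul_zero, Complex.zero_re, Complex.sub_re, Complex.re_sum, Complex.re_sum] at e
    have e2 : R = ∑ ψ ∈ D.evenPart, (mult b C ψ : ℝ) * (tw φ ξ ψ 1).re := by
      rw [hR]
      simp only [Complex.mul_re, Complex.natCast_re, Complex.natCast_im, zero_mul, sub_zero] at e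
      linarith
    rw [e2, ← Finset.sum_subset hsub (f := fun ψ => (mult b C ψ : ℝ) * (tw φ ξ ψ 1).re)
      fun ψ hψ hn => by simp [hoff ψ hψ hn], Finset.mul_sum]
    refine Finset.sum_congr rfl fun ψ hψ => ?_
    have h := congrArg Complex.re ((hin ψ hψ).1 1)
    rw [map_one, hd, degree_cast, Complex.natCast_re, Complex.mul_re, Complex.natCast_re, Complex.natCast_im,
      zero_mul, sub_zero] at h
    rw [h]; ring
  have hb := twist_bound D hS hξ hev
  rw [Nat.cast_zero, mul_zero, add_zero, ← hR] at hb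
  have hη1 : ‖η‖ ≤ (d : ℝ) := norm_avg_le (IsIrrCharacter.isCharacter hξ.irr) hd D.tC A
  have hR0 : 0 ≤ R := Finset.sum_nonneg fun ψ _ => mul_nonneg (Nat.cast_nonneg _) (by
    rcases tw_cases D.surj hξ.irr hξ.res ψ with h | ⟨h, -⟩
    · simp [h]
    · obtain ⟨m, -, hm⟩ := IsIrrCharacter.exists_degree h
      rw [hm, Complex.natCast_re]; positivity)
  have hle : ((q : ℝ) - 1) * ‖∑ ψ ∈ S, (mult b C ψ : ℂ) * tAvg D s (ψ : C → ℂ)‖ ≤ ‖η‖ * (2 * R) := by
    rw [hT, norm_mul, mul_left_comm]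
    exact mul_le_mul_of_nonneg_left hb (norm_nonneg _)
  rw [hdeg]
  have hle2 : ‖η‖ * (2 * R) ≤ (d : ℝ) * (2 * R) := mul_le_mul_of_nonneg_right hη1 (by linarith)
  refine ⟨by linarith, fun heq ψ hψ => ?_⟩
  have hpos : 0 < R := by
    have h1 : 0 < ∑ ψ ∈ S, (mult b C ψ : ℝ) * (charDegree (ψ : C → ℂ) : ℝ) := by
      refine Finset.sum_pos (fun χ hχ => mul_pos ?_ ?_) ⟨ψ, hψ⟩
      · exact Nat.cast_pos.2 (Nat.pos_of_ne_zero (Finset.mem_filter.1 (hsub hχ)).2.2)
      · refine Nat.cast_pos.2 (Nat.pos_of_ne_zero fun h0 => IsIrrCharacter.apply_one_ne_zero χ.2 ?_)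
        rw [degree_cast, h0, Nat.cast_zero]
    rw [hdeg] at h1
    exact pos_of_mul_pos_right h1 (Nat.cast_nonneg _)
  have hηd : ‖η‖ = (d : ℝ) := le_antisymm hη1 (le_of_mul_le_mul_right (by linarith) (by linarith : 0 < 2 * R))
  obtain ⟨hA1, hx⟩ := norm_avg_eq (IsIrrCharacter.isCharacter hξ.irr) hd D.tC A (by simp [hA, one_mem]) hηd
  refine rigid_of_trivial D hs (fun x hx1 => ?_) fun a ha => ?_
  · rw [(hin ψ hψ).1, (hin ψ hψ).1 1, hx x, map_commutatorElement, hx1, commutatorElement_one_left, map_one]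
  · rw [(hin ψ hψ).1, (hin ψ hψ).1 1, ((mem_inv0 D).1 ha).1, map_one]
    have h1 := hA1 a (by simp [hA, ha]) 1
    rw [mul_one] at h1
    rw [h1]

/-- The square averages separate `t` from the identity. -/
theorem beta_ne (hS : SmallH (φ D.tC) Z q) {ψ : IrrCharacter C} (hev : D.IsEvenC (ψ : C → ℂ))
    (h : avg φ (fun x => (ψ : C → ℂ) x * conj ((ψ : C → ℂ) x)) (φ D.tC) =
      avg φ (fun x => (ψ : C → ℂ) x * conj ((ψ : C → ℂ) x)) 1) :
    avg φ (fun x => (ψ : C → ℂ) x * conj ((ψ : C → ℂ) x)) 1 = 1 := by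
  classical
  letI := Fintype.ofFinite (centralizer ({φ D.tC} : Set H))
  letI := Fintype.ofFinite (IrrCharacter H)
  letI := Fintype.ofFinite φ.ker
  set F := fun x => (ψ : C → ℂ) x * conj ((ψ : C → ℂ) x) with hF
  have hcl : IsClassFunction C F := fun x g' => by
    show _ * conj _ = _
    rw [IsIrrCharacter.isClassFunction ψ.2 x g']
  have hψc := IsIrrCharacter.isCharacter ψ.2
  have hin : ∀ ρ : IrrCharacter H, classInner F (fun x => (ρ : H → ℂ) (φ x)) =
      classInner (ψ : C → ℂ) ((ψ : C → ℂ) * fun x => (ρ : H → ℂ) (φ x)) := fun ρ => by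
    simp only [classInner, Pi.mul_apply, map_mul, hF]
    exact congrArg _ (Finset.sum_congr rfl fun x _ => by ring)
  choose c hc using fun ρ : IrrCharacter H => IsCharacter.classInner_nat hψc
    (IsCharacter.mul hψc (IsCharacter.comp_hom (IsIrrCharacter.isCharacter ρ.2) φ))
  have hsum : ∀ y, avg φ F y = ∑ ρ : IrrCharacter H, (c ρ : ℂ) * (ρ : H → ℂ) y := fun y => by
    rw [avg_eq_sum φ D.surj hcl]
    exact Finset.sum_congr rfl fun ρ _ => by rw [hin, hc]
  have hone : c ⟨_, isIrrCharacter_one⟩ = 1 := by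
    have h1 := hc ⟨_, isIrrCharacter_one⟩
    rw [show ((ψ : C → ℂ) * fun x => (1 : H → ℂ) (φ x)) = (ψ : C → ℂ) from funext fun x => mul_one _,
      classInner_irr_self ψ.2] at h1
    exact_mod_cast h1.symm
  have hz : ∀ ρ : IrrCharacter H, c ρ ≠ 0 → ∀ y, (ρ : H → ℂ) (φ D.zC * y) = (ρ : H → ℂ) y := fun ρ hρ => by
    refine (apply_central_inv ρ.2 (data D).z_sq fun y => ((data D).z_comm y).symm).resolve_right fun ho => hρ ?_
    have e := hc ρ
    simp only [classInner, Pi.mul_apply, map_mul] at e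
    have e0 := e
    rw [← Equiv.sum_comp (Equiv.mulLeft D.zC)] at e
    simp only [Equiv.coe_mulLeft, hev _, map_mul, ho, map_neg, mul_neg, Finset.sum_neg_distrib, e0] at e
    have h2 : (c ρ : ℂ) = 0 := by linear_combination -(1 / 2 : ℂ) * e
    exact_mod_cast h2
  rw [hsum 1, ← Finset.add_sum_erase _ _ (Finset.mem_univ (⟨_, isIrrCharacter_one⟩ : IrrCharacter H)), hone,
    Nat.cast_one, one_mul,
    show ((⟨(1 : H → ℂ), isIrrCharacter_one⟩ : IrrCharacter H) : H → ℂ) 1 = 1 from rfl, add_eq_left]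
  rw [hsum, hsum, ← Finset.add_sum_erase _ _ (Finset.mem_univ (⟨_, isIrrCharacter_one⟩ : IrrCharacter H)),
    ← Finset.add_sum_erase Finset.univ (fun ρ : IrrCharacter H => (c ρ : ℂ) * (ρ : H → ℂ) 1)
      (Finset.mem_univ (⟨_, isIrrCharacter_one⟩ : IrrCharacter H))] at h
  simp only [Pi.one_apply] at h
  have h' := congrArg Complex.re (add_left_cancel h)
  rw [Complex.re_sum, Complex.re_sum] at h'
  have hterm : ∀ ρ ∈ Finset.univ.erase (⟨_, isIrrCharacter_one⟩ : IrrCharacter H),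
      ((c ρ : ℂ) * (ρ : H → ℂ) (φ D.tC)).re ≤ ((c ρ : ℂ) * (ρ : H → ℂ) 1).re ∧
      (((c ρ : ℂ) * (ρ : H → ℂ) (φ D.tC)).re = ((c ρ : ℂ) * (ρ : H → ℂ) 1).re → c ρ = 0) := by
    intro ρ hρ
    by_cases hc0 : c ρ = 0
    · simp [hc0]
    obtain ⟨d, N, hN⟩ := (data D).even_value hS ρ.2 (hz ρ hc0) fun e =>
      Finset.ne_of_mem_erase hρ (Subtype.ext e)
    have hle : (N : ℤ) ≤ d := by
      have h1 := IsCharacter.norm_le (IsIrrCharacter.isCharacter ρ.2) (φ D.tC)
      rw [hN.val, hN.deg, Complex.natCast_re, Complex.norm_intCast] at h1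
      exact (le_abs_self N).trans (by exact_mod_cast h1)
    have hlt : (N : ℤ) < d := lt_of_le_of_ne hle hN.ne_deg
    simp only [hN.val, hN.deg, Complex.mul_re, Complex.natCast_re, Complex.natCast_im, Complex.intCast_re,
      zero_mul, sub_zero]
    have h2 : (N : ℝ) < (d : ℝ) := by exact_mod_cast hlt
    exact ⟨mul_le_mul_of_nonneg_left h2.le (Nat.cast_nonneg _), fun e =>
      absurd (mul_left_cancel₀ (Nat.cast_ne_zero.2 hc0) e) h2.ne⟩
  have hall := (Finset.sum_eq_sum_iff_of_le fun ρ hρ => (hterm ρ hρ).1).1 h'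
  refine Finset.sum_eq_zero fun ρ hρ => ?_
  rw [(hterm ρ hρ).2 (hall ρ hρ), Nat.cast_zero, zero_mul]

open scoped Classical in
/-- A constituent over an invariant `κ` with multiplicity at least two. -/
theorem invariant_bound (hS : SmallH (φ D.tC) Z q) {s : C} (hs : (s : G) * t * (s : G)⁻¹ = t * z)
    [Fintype φ.ker] {ψ : IrrCharacter C} (hev : D.IsEvenC (ψ : C → ℂ)) {κ : φ.ker → ℂ}
    (hκ : IsIrrCharacter φ.ker κ) {e : ℕ} (he2 : 2 ≤ e) (hres : ∀ n : φ.ker, (ψ : C → ℂ) n = (e : ℂ) * κ n)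
    (hinv : ∀ (c : C) (n : φ.ker), κ ⟨c * n * c⁻¹, (inferInstance : φ.ker.Normal).conj_mem _ n.2 c⟩ = κ n) :
    ((q : ℝ) - 1) * ‖tAvg D s (ψ : C → ℂ)‖ ≤ 2 * (charDegree (ψ : C → ℂ) : ℝ) ∧
      (((q : ℝ) - 1) * ‖tAvg D s (ψ : C → ℂ)‖ = 2 * (charDegree (ψ : C → ℂ) : ℝ) → D.IsRigid (ψ : C → ℂ)) := by
  set Dd := data D
  set T := centralizer ({φ D.tC} : Set H) with hT
  letI : Fintype T := Fintype.ofFinite _
  obtain ⟨a0, ha0, ha0o, hagen, haord⟩ := Dd.exists_gen
  have ht2 : φ D.tC * φ D.tC = 1 := by rw [← map_mul, tC_sq D, map_one]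
  have hztor : φ D.zC ∈ T := Dd.z_torus
  set u := φ D.tC * a0 with hu
  have hct : Commute (φ D.tC) a0 := (mem_centralizer_singleton_iff.1 ha0).symm
  have htpow : φ D.tC ^ o = φ D.tC := by
    obtain ⟨m, hm⟩ := D.line.o_odd
    exact (congrArg (φ D.tC ^ ·) hm).trans (by simp only [pow_succ, pow_mul, pow_two, ht2, one_pow, one_mul])
  have huo : u ^ o = φ D.tC := by rw [hu, hct.mul_pow, ha0o, htpow, mul_one]
  have hau : a0 ∈ zpowers u := by
    refine mem_zpowers_iff.2 ⟨((o + 1 : ℕ) : ℤ), ?_⟩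
    rw [zpow_natCast, pow_succ, huo, hu, ← mul_assoc, ht2, one_mul]
  have htu : φ D.tC ∈ zpowers u := huo ▸ pow_mem (mem_zpowers u) o
  have hzu : φ D.zC ∉ zpowers u := by
    intro hm
    obtain ⟨i, hi⟩ := mem_zpowers_iff.1 hm
    have h1 : φ D.tC ^ i = φ D.zC := by
      have h2 : (u ^ i) ^ o = φ D.zC ^ o := by rw [hi]
      rw [← zpow_natCast, ← zpow_mul, mul_comm, zpow_mul, zpow_natCast, huo] at h2
      obtain ⟨m, hm⟩ := D.line.o_odd
      exact h2.trans ((congrArg (φ D.zC ^ ·) hm).trans (by simp only [pow_succ, pow_mul, pow_two, Dd.z_sq, one_pow, one_mul]))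
    rcases Int.even_or_odd i with ⟨k, rfl⟩ | ⟨k, rfl⟩
    · rw [← two_mul, zpow_mul, zpow_two, ht2, one_zpow] at h1
      exact Dd.z_ne h1.symm
    · rw [zpow_add, zpow_mul, zpow_two, ht2, one_zpow, zpow_one, one_mul] at h1
      exact D.line.t_notMem (h1.symm ▸ D.z_bar)
  have hcover : ∀ τ ∈ T, τ ∈ zpowers u ∨ φ D.zC * τ ∈ zpowers u := by
    intro τ hτ
    obtain ⟨y, hy, h⟩ := Dd.torus.gen ⟨τ, hτ⟩
    have hy' : (y : H) ∈ zpowers u := by
      have h1 := congrArg Subtype.val hy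
      rw [SubmonoidClass.coe_pow, OneMemClass.coe_one] at h1
      exact (zpowers_le.2 hau) (hagen _ y.2 h1)
    rcases h with h | h | h | h <;> have h' : τ = _ := congrArg Subtype.val h
    · exact Or.inl (h' ▸ hy')
    · refine Or.inr ?_
      rw [h']
      show φ D.zC * (φ D.zC * (y : H)) ∈ zpowers u
      rwa [← mul_assoc, Dd.z_sq, one_mul]
    · refine Or.inl ?_
      rw [h']
      exact mul_mem htu hy'
    · refine Or.inr ?_
      rw [h']
      show φ D.zC * (φ D.tC * φ D.zC * (y : H)) ∈ zpowers u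
      rw [← mul_assoc, ← mul_assoc, Dd.z_comm (φ D.tC), mul_assoc (φ D.tC), Dd.z_sq, mul_one]
      exact mul_mem htu hy'
  -- the preimages
  set M := T.comap φ with hM
  set M1 := (zpowers u).comap φ with hM1
  letI : Fintype M := Fintype.ofFinite _
  letI : Fintype M1 := Fintype.ofFinite _
  let π1 : M1 →* zpowers u := (φ.comp M1.subtype).codRestrict (zpowers u) fun x => x.2
  let e1 : π1.ker ≃* φ.ker :=
    { toFun := fun n => ⟨((n : M1) : C), MonoidHom.mem_ker.2 (congrArg Subtype.val (MonoidHom.mem_ker.1 n.2))⟩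
      invFun := fun n => ⟨⟨(n : C), show φ (n : C) ∈ zpowers u by rw [MonoidHom.mem_ker.1 n.2]; exact one_mem _⟩,
        MonoidHom.mem_ker.2 (Subtype.ext (MonoidHom.mem_ker.1 n.2))⟩
      left_inv := fun n => rfl
      right_inv := fun n => rfl
      map_mul' := fun n m => rfl }
  haveI : IsCyclic (M1 ⧸ π1.ker) := isCyclic_of_injective _ (QuotientGroup.kerLift_injective π1)
  obtain ⟨θ1, hθ1, hθ1res⟩ := FullyRamified.exists_extension_of_cyclic (Z := π1.ker) ‹_›
    (IsIrrCharacter.comp_equiv hκ e1) fun g' n => hinv (g' : C) (e1 n)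
  have hmemM1 : ∀ x : M, φ (x : C) ∉ zpowers u → D.zC * (x : C) ∈ M1 := fun x hx => by
    show φ (D.zC * (x : C)) ∈ zpowers u
    rw [map_mul]
    exact (hcover _ x.2).resolve_left hx
  let pf : M → M1 := fun x => if h : φ (x : C) ∈ zpowers u then ⟨(x : C), h⟩ else ⟨D.zC * (x : C), hmemM1 x h⟩
  have hzc : ∀ c : C, D.zC * c = c * D.zC := fun c => Subtype.ext (D.le_cent c c.2).eq
  have hpmul : ∀ x y : M, pf (x * y) = pf x * pf y := by
    intro x y
    have hxy : φ ((x * y : M) : C) = φ (x : C) * φ (y : C) := map_mul φ _ _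
    by_cases hx : φ (x : C) ∈ zpowers u <;> by_cases hy : φ (y : C) ∈ zpowers u
    · have h : φ ((x * y : M) : C) ∈ zpowers u := by rw [hxy]; exact mul_mem hx hy
      simp only [pf, dif_pos hx, dif_pos hy, dif_pos h]
      rfl
    · have h : φ ((x * y : M) : C) ∉ zpowers u := fun h => hy (by
        rw [hxy] at h; exact (mul_mem_cancel_left hx).1 h)
      simp only [pf, dif_pos hx, dif_neg hy, dif_neg h]
      refine Subtype.ext ?_
      show D.zC * ((x : C) * (y : C)) = (x : C) * (D.zC * (y : C))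
      rw [← mul_assoc, hzc, mul_assoc]
    · have h : φ ((x * y : M) : C) ∉ zpowers u := fun h => hx (by
        rw [hxy] at h; exact (mul_mem_cancel_right hy).1 h)
      simp only [pf, dif_neg hx, dif_pos hy, dif_neg h]
      refine Subtype.ext ?_
      show D.zC * ((x : C) * (y : C)) = D.zC * (x : C) * (y : C)
      rw [mul_assoc]
    · have h : φ ((x * y : M) : C) ∈ zpowers u := by
        have h1 := mul_mem ((hcover _ x.2).resolve_left hx) ((hcover _ y.2).resolve_left hy)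
        rw [hxy]
        rwa [show φ D.zC * φ (x : C) * (φ D.zC * φ (y : C)) = φ (x : C) * φ (y : C) by
          rw [Dd.z_comm (φ (x : C)), mul_assoc, ← mul_assoc (φ D.zC), Dd.z_sq, one_mul]] at h1
      simp only [pf, dif_neg hx, dif_neg hy, dif_pos h]
      refine Subtype.ext ?_
      show (x : C) * (y : C) = D.zC * (x : C) * (D.zC * (y : C))
      rw [hzc (x : C), mul_assoc, ← mul_assoc D.zC, zC_sq D, one_mul]
  let p : M →* M1 := MonoidHom.mk' pf hpmul
  have hp1 : ∀ x : M, φ (x : C) ∈ zpowers u → ((p x : M1) : C) = (x : C) := fun x h => by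
    show ((pf x : M1) : C) = _
    simp [pf, h]
  have hpsurj : Function.Surjective p := fun x => by
    have hxT : φ (x : C) ∈ T := (zpowers_le.2 (mul_mem (mem_centralizer_singleton_iff.2 rfl) ha0)) x.2
    exact ⟨⟨(x : C), hxT⟩, Subtype.ext (hp1 ⟨(x : C), hxT⟩ x.2)⟩
  set θ : M → ℂ := fun x => θ1 (p x) with hθdef
  have hθ : IsIrrCharacter M θ := IsIrrCharacter.comp_surjective hθ1 p hpsurj
  have hzmem : D.zC ∈ M := hztor
  have hθz : ∀ x : M, θ (⟨D.zC, hzmem⟩ * x) = θ x := fun x => by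
    have : p ⟨D.zC, hzmem⟩ = 1 := Subtype.ext (by
      show ((pf _ : M1) : C) = 1
      simp only [pf, dif_neg hzu]
      exact zC_sq D)
    rw [hθdef]
    show θ1 (p (_ * x)) = θ1 (p x)
    rw [map_mul, this, one_mul]
  let π : M →* T := (φ.comp M.subtype).codRestrict T fun x => x.2
  have hπ : Function.Surjective π := fun τ => by
    obtain ⟨c, hc⟩ := D.surj (τ : H)
    exact ⟨⟨c, show φ c ∈ T from hc ▸ τ.2⟩, Subtype.ext hc⟩
  let e2 : π.ker ≃* φ.ker :=
    { toFun := fun n => ⟨((n : M) : C), MonoidHom.mem_ker.2 (congrArg Subtype.val (MonoidHom.mem_ker.1 n.2))⟩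
      invFun := fun n => ⟨⟨(n : C), show φ (n : C) ∈ T by rw [MonoidHom.mem_ker.1 n.2]; exact one_mem _⟩,
        MonoidHom.mem_ker.2 (Subtype.ext (MonoidHom.mem_ker.1 n.2))⟩
      left_inv := fun n => rfl
      right_inv := fun n => rfl
      map_mul' := fun n m => rfl }
  letI : Fintype π.ker := Fintype.ofFinite _
  have hθres : ∀ n : π.ker, θ n = κ (e2 n) := fun n => by
    have hmem : φ ((n : M) : C) ∈ zpowers u := by
      rw [show φ ((n : M) : C) = 1 from congrArg Subtype.val (MonoidHom.mem_ker.1 n.2)]; exact one_mem _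
    have hk : p (n : M) ∈ π1.ker := MonoidHom.mem_ker.2 (Subtype.ext (by
      show φ ((p (n : M) : M1) : C) = 1
      rw [hp1 _ hmem]
      exact congrArg Subtype.val (MonoidHom.mem_ker.1 n.2)))
    refine (hθ1res ⟨_, hk⟩).trans (congrArg κ (Subtype.ext ?_))
    show ((p (n : M) : M1) : C) = ((n : M) : C)
    rw [hp1 _ hmem]
  have hθirr : IsIrrCharacter π.ker (fun n : π.ker => θ n) := by
    rw [funext hθres]
    exact IsIrrCharacter.comp_equiv hκ e2
  have hψM : IsCharacter M (fun x : M => (ψ : C → ℂ) x) :=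
    IsCharacter.restrict (IsIrrCharacter.isCharacter ψ.2) M
  set f : T → ℂ := avg π (fun x => (ψ : C → ℂ) x * conj (θ x)) with hf
  have hψf : ∀ x : M, (ψ : C → ℂ) x = θ x * f (π x) := fun x =>
    mul_avg π hπ hθ hθirr hψM (e := (e : ℂ)) (fun n => by rw [hθres]; exact hres (e2 n)) x
  have hnat : ∀ ν : IrrCharacter T, ∃ m : ℕ, classInner f (ν : T → ℂ) = m := fun ν => by
    rw [hf, inner_twist π hπ hθ]
    exact IsCharacter.classInner_nat hψM
      (IsCharacter.mul (IsIrrCharacter.isCharacter hθ) (IsCharacter.comp_hom (IsIrrCharacter.isCharacter ν.2) π))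
  have hfz : ∀ τ : T, f (Dd.zT * τ) = (1 : ℂ) * f τ := fun τ => by
    obtain ⟨x, rfl⟩ := hπ τ
    rw [show Dd.zT = π ⟨D.zC, hzmem⟩ from rfl, ← map_mul, hf, avg_apply, avg_apply, one_mul]
    refine congrArg _ (Finset.sum_congr rfl fun k _ => ?_)
    rw [mul_assoc, hθz, show ((⟨D.zC, hzmem⟩ * (x * (k : M)) : M) : C) = D.zC * ((x * (k : M) : M) : C) from rfl,
      hev]
  -- coset norms
  have hθ2 : ∀ τ : T, ∑ x ∈ Finset.univ.filter (fun x : M => π x = τ), ‖θ x‖ ^ 2 = (Nat.card φ.ker : ℝ) := by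
    intro τ
    have h := congrFun (avg_self π hπ hθ hθirr) τ
    simp only [avg, Pi.one_apply, Complex.mul_conj'] at h
    rw [inv_mul_eq_iff_eq_mul₀ (Nat.cast_ne_zero.2 Nat.card_pos.ne'), mul_one] at h
    have h2 := congrArg Complex.re h
    rw [Complex.re_sum, Complex.natCast_re, Nat.card_congr e2.toEquiv] at h2
    rw [← h2]
    exact Finset.sum_congr (by ext; simp) fun x _ => by rw [← Complex.ofReal_pow, Complex.ofReal_re]
  have hsum : ∀ (P : T → Prop) [DecidablePred P], ∑ x ∈ Finset.univ.filter (fun x : M => P (π x)), ‖(ψ : C → ℂ) x‖ ^ 2 =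
      (Nat.card φ.ker : ℝ) * ∑ τ ∈ Finset.univ.filter (fun τ => P τ), ‖f τ‖ ^ 2 := by
    intro P _
    rw [← Finset.sum_fiberwise_of_maps_to (t := Finset.univ.filter fun τ => P τ) (g := π)
      (fun x hx => by simpa using (Finset.mem_filter.1 hx).2), Finset.mul_sum]
    refine Finset.sum_congr rfl fun τ hτ => ?_
    rw [Finset.filter_filter, ← hθ2 τ, Finset.sum_mul]
    refine Finset.sum_congr ?_ fun x hx => ?_
    · ext x
      simp only [Finset.mem_filter, Finset.mem_univ, true_and]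
      exact ⟨fun h => h.2, fun h => ⟨h ▸ (Finset.mem_filter.1 hτ).2, h⟩⟩
    · rw [hψf x, (Finset.mem_filter.1 hx).2, norm_mul, mul_pow]
  have hf1z : f Dd.zT = f 1 := by
    have := hfz 1
    rwa [mul_one, one_mul] at this
  have hlt : (∑ τ, ‖f τ‖ ^ 2) - 2 * ‖f 1‖ ^ 2 < 8 * (o : ℝ) := by
    set N := (normalizer ((T : Subgroup H) : Set H)).comap φ with hN
    set Sc := Finset.univ.filter fun x : C => φ x ∈ T ∧ φ x ∉ Z with hSc
    have h := ti_energy (W := C) Sc N (fun x => ‖(ψ : C → ℂ) x‖ ^ 2) (fun x => sq_nonneg _)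
      (fun x g' => by rw [IsIrrCharacter.isClassFunction ψ.2 x g']) (by simp [hSc, Z.one_mem])
      (fun g' x hx hgx => by
        simp only [hSc, Finset.mem_filter, Finset.mem_univ, true_and, map_mul, map_inv] at hx hgx
        exact D.line.torus_ti _ _ hx.1 hx.2 hgx.1)
    rw [sum_norm_sq ψ.2] at h
    have hS2 : ∑ x ∈ Sc, ‖(ψ : C → ℂ) x‖ ^ 2 =
        (Nat.card φ.ker : ℝ) * ∑ τ ∈ Finset.univ.filter (fun τ : T => (τ : H) ∉ Z), ‖f τ‖ ^ 2 := by
      refine Eq.trans ?_ (hsum fun τ : T => (τ : H) ∉ Z)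
      symm
      refine Finset.sum_bij (fun x _ => (x : C)) (fun x hx => ?_) (fun x _ y _ e => Subtype.ext e)
        (fun x hx => ?_) (fun x _ => rfl)
      · simp only [hSc, Finset.mem_filter, Finset.mem_univ, true_and] at hx ⊢
        exact ⟨x.2, hx⟩
      · simp only [hSc, Finset.mem_filter, Finset.mem_univ, true_and] at hx
        exact ⟨⟨x, hx.1⟩, by simp only [Finset.mem_filter, Finset.mem_univ, true_and]; exact hx.2, rfl⟩
    have hsplit : ∑ τ, ‖f τ‖ ^ 2 =
        (∑ τ ∈ Finset.univ.filter (fun τ : T => (τ : H) ∉ Z), ‖f τ‖ ^ 2) + 2 * ‖f 1‖ ^ 2 := by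
      rw [← Finset.sum_filter_add_sum_filter_not Finset.univ (fun τ : T => (τ : H) ∉ Z)]
      congr 1
      rw [show Finset.univ.filter (fun τ : T => ¬ (τ : H) ∉ Z) = {1, Dd.zT} from ?_,
        Finset.sum_pair Dd.torus.z_ne.symm, hf1z]
      · ring
      · ext τ
        simp only [Finset.mem_filter, Finset.mem_univ, true_and, not_not, Finset.mem_insert, Finset.mem_singleton]
        exact ⟨fun h => by
          rcases Dd.mem_Z.1 h with e | e
          · exact Or.inl (Subtype.ext e)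
          · exact Or.inr (Subtype.ext e), fun h => by
          rcases h with rfl | rfl
          exacts [Z.one_mem, D.z_bar]⟩
    have hNi : N.index = (normalizer ((T : Subgroup H) : Set H)).index := index_comap_of_surjective _ D.surj
    have hC : (Nat.card C : ℝ) = (Nat.card φ.ker : ℝ) * ((N.index : ℝ) * (8 * o)) := by
      have h1 : Nat.card C = Nat.card φ.ker * Nat.card H := by
        rw [← φ.ker.card_mul_index, Subgroup.index_ker, MonoidHom.range_eq_top.mpr D.surj, Subgroup.card_top]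
      rw [h1, hNi, ← (normalizer ((T : Subgroup H) : Set H)).index_mul_card, Dd.normalizer_card]
      push_cast; ring
    rw [hS2, hC] at h
    have hpos : (0 : ℝ) < ‖(ψ : C → ℂ) 1‖ ^ 2 :=
      pow_pos (norm_pos_iff.2 (IsIrrCharacter.apply_one_ne_zero ψ.2)) 2
    have hKN : (0 : ℝ) < (Nat.card φ.ker : ℝ) * (N.index : ℝ) :=
      mul_pos (Nat.cast_pos.2 Nat.card_pos) (Nat.cast_pos.2 (Nat.pos_of_ne_zero N.index_ne_zero_of_finite))
    have h2 : ((Nat.card φ.ker : ℝ) * (N.index : ℝ)) *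
        ∑ τ ∈ Finset.univ.filter (fun τ : T => (τ : H) ∉ Z), ‖f τ‖ ^ 2 <
        ((Nat.card φ.ker : ℝ) * (N.index : ℝ)) * (8 * o) := by linarith
    have h3 := lt_of_mul_lt_mul_left h2 hKN.le
    linarith
  obtain ⟨m, c, J, Sh⟩ := Dd.shape_of (Or.inl rfl) hnat hfz hlt
  obtain ⟨N, hNsum, hpar⟩ := sign_sum_parity J (fun ν => (ν : T → ℂ) Dd.tT)
    fun ν _ => Dd.torus.apply_sign ν Dd.torus.t_sq
  have hft : f Dd.tT = (N : ℂ) := (Dd.shape_t (Or.inl rfl) Sh).trans hNsum
  have hf1 := Dd.shape_one (Or.inl rfl) Sh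
  obtain ⟨d, hd0, hd⟩ := IsIrrCharacter.exists_degree hκ
  have hθ1' : θ 1 = d := by
    have h := hθres 1
    rw [map_one, hd] at h
    exact h
  have he : e = 2 * o * c + J.card := by
    have h := hψf 1
    rw [map_one, hθ1', hf1] at h
    have h2 := hres 1
    rw [OneMemClass.coe_one] at h h2
    rw [h2, hd, mul_comm] at h
    exact_mod_cast mul_left_cancel₀ (Nat.cast_ne_zero.2 hd0.ne') h
  have hdeg : (charDegree (ψ : C → ℂ) : ℝ) = (e : ℝ) * d := by
    have h2 := hres 1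
    rw [OneMemClass.coe_one, hd, degree_cast] at h2
    exact_mod_cast h2
  have htM : D.tC ∈ M := show φ D.tC ∈ T from mem_centralizer_singleton_iff.2 rfl
  have hinvM : ∀ a, a ∈ inv0 D s → a ∈ M := fun a ha => show φ a ∈ T by
    rw [((mem_inv0 D).1 ha).1]; exact one_mem _
  set AM := Finset.univ.filter fun a : M => (a : C) ∈ inv0 D s with hAM
  set η := (AM.card : ℂ)⁻¹ * ∑ a ∈ AM, θ (⟨D.tC, htM⟩ * a) with hη
  have hT' : tAvg D s (ψ : C → ℂ) = η * (N : ℂ) := by
    have hcardA : (Finset.univ.filter fun a : C => a ∈ inv0 D s).card = AM.card :=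
      (Finset.card_bij (s := AM) (fun x _ => (x : C)) (fun x hx => by simpa [hAM] using hx)
        (fun x _ y _ e => Subtype.ext e) (fun x hx => ⟨⟨x, hinvM x (by simpa using hx)⟩,
          by simpa [hAM] using hx, rfl⟩)).symm
    rw [tAvg, hη, hcardA, mul_assoc, Finset.sum_mul]
    refine congrArg _ (Finset.sum_bij (fun x hx => (⟨x, hinvM x (Finset.mem_filter.1 hx).2⟩ : M))
      (fun x hx => by simpa [hAM] using hx) (fun x _ y _ e => congrArg Subtype.val e)
      (fun x hx => ⟨(x : C), by simpa [hAM] using hx, Subtype.ext rfl⟩) fun x hx => ?_)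
    have h := hψf (⟨D.tC, htM⟩ * ⟨x, hinvM x (Finset.mem_filter.1 hx).2⟩)
    rw [map_mul, show π ⟨x, hinvM x (Finset.mem_filter.1 hx).2⟩ = 1 from
      Subtype.ext ((mem_inv0 D).1 (Finset.mem_filter.1 hx).2).1, mul_one] at h
    rw [← hft]
    exact h
  have hη1 : ‖η‖ ≤ (d : ℝ) := norm_avg_le (IsIrrCharacter.isCharacter hθ) hθ1' _ AM
  have hrigid : ‖η‖ = (d : ℝ) → D.IsRigid (ψ : C → ℂ) := fun heq => by
    obtain ⟨hA, hx⟩ := norm_avg_eq (IsIrrCharacter.isCharacter hθ) hθ1' _ AM (by simp [hAM, one_mem]) heq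
    refine rigid_of_trivial D hs (fun x hx1 => ?_) fun a ha => ?_
    · have hxM : x ∈ M := show φ x ∈ T by rw [hx1]; exact one_mem _
      have h := hψf ⁅(⟨x, hxM⟩ : M), ⟨D.tC, htM⟩⁆
      have hπx : π ⁅(⟨x, hxM⟩ : M), ⟨D.tC, htM⟩⁆ = 1 := by
        rw [map_commutatorElement, show π ⟨x, hxM⟩ = 1 from Subtype.ext hx1, commutatorElement_one_left]
      rw [hx, hπx, ← map_one π, ← hψf] at h
      exact h
    · have h := hψf ⟨a, hinvM a ha⟩
      have h1 := hA ⟨a, hinvM a ha⟩ (by simp [hAM, ha]) 1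
      rw [mul_one] at h1
      rw [h1, show π ⟨a, hinvM a ha⟩ = π 1 from
        Subtype.ext ((((mem_inv0 D).1 ha).1).trans (map_one φ).symm), ← hψf] at h
      exact h
  -- the value of `f` at `t` is not `± e` below `q - 1`
  have hbeta : |N| = (e : ℤ) → False := fun hN => by
    have hb : ∀ y : T, avg φ (fun x => (ψ : C → ℂ) x * conj ((ψ : C → ℂ) x)) (y : H) =
        f y * conj (f y) := by
      intro y
      obtain ⟨x, rfl⟩ := hπ y
      have h := avg_comp π (fun τ => f τ * conj (f τ)) (fun x => θ x * conj (θ x)) x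
      rw [avg_self π hπ hθ hθirr, Pi.one_apply, mul_one] at h
      rw [← h, show ((π x : T) : H) = φ (x : C) from rfl, avg_apply, avg_apply, Nat.card_congr e2.toEquiv]
      refine congrArg _ (Fintype.sum_equiv e2.symm.toEquiv _ _ fun k => ?_)
      rw [show (x : C) * (k : C) = ((x * (e2.symm k : M) : M) : C) from rfl, hψf, map_mul]
      show _ = f (π (x * (e2.symm k : M))) * conj (f (π (x * (e2.symm k : M)))) * _
      simp only [MulEquiv.toEquiv_eq_coe, EquivLike.coe_coe, map_mul]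
      ring
    have h1 := hb 1
    have h2 := hb Dd.tT
    rw [hft, map_intCast] at h2
    rw [hf1, Complex.conj_natCast, ← he, OneMemClass.coe_one] at h1
    have h3 : avg φ (fun x => (ψ : C → ℂ) x * conj ((ψ : C → ℂ) x)) (φ D.tC) =
        avg φ (fun x => (ψ : C → ℂ) x * conj ((ψ : C → ℂ) x)) 1 := by
      rw [h1]
      refine h2.trans ?_
      have hNN : N * N = (e : ℤ) * e := by rw [← abs_mul_abs_self N, hN]
      exact_mod_cast congrArg (Int.cast : ℤ → ℂ) hNN
    have h4 := beta_ne D hS hev h3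
    rw [h1] at h4
    have : e * e = 1 := by exact_mod_cast h4
    nlinarith
  -- cases
  have hn := Dd.norm_t_le (Or.inl rfl) Sh
  rw [hft, Complex.norm_intCast] at hn
  have hn1 : |N| ≤ (J.card : ℤ) := by exact_mod_cast hn.1
  have hn2 : |N| ≤ 2 * (o : ℤ) - J.card := by exact_mod_cast hn.2
  have hq := Dd.q_eq
  have habs : (0 : ℤ) ≤ |N| := abs_nonneg N
  have hpar' : |N| % 2 = (J.card : ℤ) % 2 := by
    rcases abs_choice N with h | h <;> omega
  have ho := Dd.o_three
  have hcase : (|N| ≤ 2 ∧ q - 1 ≤ e) ∨ ((q : ℤ) - 1) * |N| < 2 * (e : ℤ) := by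
    rcases Sh.cases with h | h | h
    · rcases Nat.eq_zero_or_pos c with hc | hc
      · subst hc
        right
        have hne : |N| ≠ e := hbeta
        have : |N| = 0 := by omega
        rw [this, mul_zero]; omega
      · left
        have : 2 * o ≤ 2 * o * c := Nat.le_mul_of_pos_right _ hc
        exact ⟨by omega, by omega⟩
    · left
      exact ⟨by omega, by omega⟩
    · right
      have hq5 : q = 5 := by omega
      rcases Nat.eq_zero_or_pos c with hc | hc
      · subst hc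
        have hne : |N| ≠ e := hbeta
        have hN1 : |N| ≤ 1 := by omega
        subst hq5
        omega
      · have : 2 * o ≤ 2 * o * c := Nat.le_mul_of_pos_right _ hc
        subst hq5
        omega
  rw [hT', norm_mul, Complex.norm_intCast, hdeg]
  have hq1 : (1 : ℝ) < q := by exact_mod_cast (show 1 < q by omega)
  rcases hcase with ⟨h1, h2⟩ | h
  · have h1' : |(N : ℝ)| ≤ 2 := by exact_mod_cast h1
    have h2' : (q : ℝ) - 1 ≤ (e : ℝ) := by
      have : ((q : ℝ)) ≤ (e : ℝ) + 1 := by exact_mod_cast (show q ≤ e + 1 by omega)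
      linarith
    have hb1 : ((q : ℝ) - 1) * (‖η‖ * |(N : ℝ)|) ≤ (e : ℝ) * (‖η‖ * 2) :=
      mul_le_mul h2' (mul_le_mul_of_nonneg_left h1' (norm_nonneg _)) (by positivity) (Nat.cast_nonneg _)
    have hb2 : (e : ℝ) * (‖η‖ * 2) ≤ 2 * ((e : ℝ) * d) := by
      nlinarith [mul_le_mul_of_nonneg_left hη1 (Nat.cast_nonneg e : (0 : ℝ) ≤ e)]
    refine ⟨hb1.trans hb2, fun heq => hrigid (le_antisymm hη1 ?_)⟩
    have he0 : (0 : ℝ) < e := by exact_mod_cast (show 0 < e by omega)
    nlinarith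
  · have h' : ((q : ℝ) - 1) * |(N : ℝ)| < 2 * (e : ℝ) := by exact_mod_cast h
    have hd' : (0 : ℝ) < d := Nat.cast_pos.2 hd0
    have : ((q : ℝ) - 1) * (‖η‖ * |(N : ℝ)|) < 2 * ((e : ℝ) * d) := by
      calc ((q : ℝ) - 1) * (‖η‖ * |(N : ℝ)|) = ‖η‖ * (((q : ℝ) - 1) * |(N : ℝ)|) := by ring
        _ ≤ (d : ℝ) * (((q : ℝ) - 1) * |(N : ℝ)|) := mul_le_mul_of_nonneg_right hη1 (mul_nonneg (by linarith) (abs_nonneg _))
        _ < (d : ℝ) * (2 * (e : ℝ)) := mul_lt_mul_of_pos_left h' hd'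
        _ = _ := by ring
    exact ⟨this.le, fun heq => absurd heq this.ne⟩

end Cfsg.Agent.SDKeystone.Minus
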