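import Cfsg.Agent.Lib.SDKeystone.Budget.Minus.Vec
import Cfsg.Agent.Lib.Char.Linear
import Cfsg.Agent.Lib.Char.Orth
import Cfsg.Agent.Lib.ClassCount.CharSum

/-!
# The characters of a torus `⟨z⟩ × ⟨t⟩ × T₀`, `|T₀| = o` odd (helper87)

* `Torus`, `Torus.oddSub`, `card_oddSub`;
* `signChars ε` : the characters with value `ε` at `z`; `sum_signChars` : their sum;
* `trivOdd` : those trivial on `T₀`, two of them, with opposite values at `t`;
* `natVec`, `signed_sum_le` : the bound on `Σ m ν(t)` from the shape of `m`.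
-/

set_option autoImplicit false
set_option linter.unusedSectionVars false

open scoped ComplexConjugate

namespace Cfsg.Agent.SDKeystone.Minus

open Cfsg Cfsg.Agent.Char

variable {T : Type*} [Group T] [Fintype T] {z t : T} {o : ℕ}

/-- The torus. -/
structure Torus (T : Type*) [Group T] (z t : T) (o : ℕ) : Prop where
  comm : ∀ x y : T, x * y = y * x
  odd : Odd o
  three_le : 3 ≤ o
  z_sq : z * z = 1
  t_sq : t * t = 1
  z_ne : z ≠ 1
  t_ne : t ≠ 1
  tz_ne : t ≠ z
  card : Nat.card T = 4 * o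
  gen : ∀ x : T, ∃ y : T, y ^ o = 1 ∧ (x = y ∨ x = z * y ∨ x = t * y ∨ x = t * z * y)

namespace Torus

variable (D : Torus T z t o)
include D

/-- The part of odd order. -/
def oddSub : Subgroup T where
  carrier := {y | y ^ o = 1}
  one_mem' := one_pow o
  mul_mem' := fun {a b} ha hb => by
    show (a * b) ^ o = 1
    rw [Commute.mul_pow (D.comm a b), show a ^ o = 1 from ha, show b ^ o = 1 from hb, mul_one]
  inv_mem' := fun {a} ha => by
    show a⁻¹ ^ o = 1
    rw [inv_pow, show a ^ o = 1 from ha, inv_one]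

theorem mem_oddSub {y : T} : y ∈ D.oddSub ↔ y ^ o = 1 := Iff.rfl

theorem pow_o_z : z ^ o = z := by
  obtain ⟨m, hm⟩ := D.odd
  rw [hm, pow_succ, pow_mul, pow_two, D.z_sq, one_pow, one_mul]

theorem pow_o_t : t ^ o = t := by
  obtain ⟨m, hm⟩ := D.odd
  rw [hm, pow_succ, pow_mul, pow_two, D.t_sq, one_pow, one_mul]

theorem tz_ne_one : t * z ≠ 1 := fun e => D.tz_ne (by
  calc t = t * (z * z) := by rw [D.z_sq, mul_one]
    _ = z := by rw [← mul_assoc, e, one_mul])

/-- The four elements of the two-part. -/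
def two (_D : Torus T z t o) (i : Fin 4) : T := ![1, z, t, t * z] i

theorem two_pow (i : Fin 4) : (D.two i) ^ o = D.two i := by
  fin_cases i
  · simp [two]
  · simpa [two] using D.pow_o_z
  · simpa [two] using D.pow_o_t
  · show (t * z) ^ o = t * z
    rw [Commute.mul_pow (D.comm t z), D.pow_o_t, D.pow_o_z]

theorem two_injective : Function.Injective D.two := by
  intro i j e
  have h1 : t * z ≠ z := fun e => D.t_ne (mul_eq_right.1 e)
  have h2 : t * z ≠ t := fun e => D.z_ne (mul_eq_left.1 e)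
  fin_cases i <;> fin_cases j <;>
    simp [two, D.z_ne, D.z_ne.symm, D.t_ne, D.t_ne.symm, D.tz_ne, D.tz_ne.symm, D.tz_ne_one,
      D.tz_ne_one.symm, h1, h1.symm, h2, h2.symm] at e ⊢

theorem card_oddSub : Nat.card D.oddSub = o := by
  let f : Fin 4 × D.oddSub → T := fun p => D.two p.1 * p.2
  have hf : Function.Bijective f := by
    constructor
    · rintro ⟨i, a⟩ ⟨j, b⟩ e
      simp only [f] at e
      have e2 := congrArg (· ^ o) e
      simp only [Commute.mul_pow (D.comm _ _), D.two_pow, D.mem_oddSub.1 a.2, D.mem_oddSub.1 b.2,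
        mul_one] at e2
      have := D.two_injective e2
      subst this
      exact Prod.ext rfl (Subtype.ext (mul_left_cancel e))
    · intro x
      obtain ⟨y, hy, h | h | h | h⟩ := D.gen x
      · exact ⟨(0, ⟨y, hy⟩), by simp [f, two, h]⟩
      · exact ⟨(1, ⟨y, hy⟩), by simp [f, two, h]⟩
      · exact ⟨(2, ⟨y, hy⟩), by simp [f, two, h]⟩
      · exact ⟨(3, ⟨y, hy⟩), by simp [f, two, h]⟩
  have := Nat.card_eq_of_bijective f hf
  rw [Nat.card_prod, Nat.card_fin, D.card] at this
  omega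

theorem exists_hom (ν : IrrCharacter T) : ∃ l : T →* ℂ, ∀ x, l x = (ν : T → ℂ) x := by
  obtain ⟨l, hl⟩ := exists_hom_of_degree_one (IsIrrCharacter.isCharacter ν.2)
    (apply_one_eq_one_of_comm D.comm ν)
  exact ⟨l, fun x => congrFun hl x⟩

theorem apply_mul (ν : IrrCharacter T) (x y : T) :
    (ν : T → ℂ) (x * y) = (ν : T → ℂ) x * (ν : T → ℂ) y := by
  obtain ⟨l, hl⟩ := D.exists_hom ν
  rw [← hl, ← hl, ← hl, map_mul]

theorem apply_one (ν : IrrCharacter T) : (ν : T → ℂ) 1 = 1 := apply_one_eq_one_of_comm D.comm ν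

theorem apply_sign (ν : IrrCharacter T) {x : T} (hx : x * x = 1) :
    (ν : T → ℂ) x = 1 ∨ (ν : T → ℂ) x = -1 := by
  refine mul_self_eq_one_iff.1 ?_
  rw [← D.apply_mul, hx, D.apply_one]

open scoped Classical in
/-- The characters with value `ε` at `z`. -/
noncomputable def signChars (_D : Torus T z t o) (ε : ℂ) : Finset (IrrCharacter T) :=
  haveI := Fintype.ofFinite (IrrCharacter T)
  Finset.univ.filter fun ν => (ν : T → ℂ) z = ε

theorem mem_signChars {ε : ℂ} {ν : IrrCharacter T} : ν ∈ D.signChars ε ↔ (ν : T → ℂ) z = ε := by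
  simp [signChars]

open scoped Classical in
theorem sum_signChars (ε : ℂ) (hε : ε = 1 ∨ ε = -1) (x : T) :
    ∑ ν ∈ D.signChars ε, (ν : T → ℂ) x =
      (if x = 1 then (2 * o : ℂ) else 0) + ε * (if x = z then (2 * o : ℂ) else 0) := by
  letI := Fintype.ofFinite (IrrCharacter T)
  have hcol : ∀ a : T, ∑ ν : IrrCharacter T, (ν : T → ℂ) x * conj ((ν : T → ℂ) a) =
      if x = a then (4 * o : ℂ) else 0 := fun a => by
    rw [column_orth]
    have hiff : IsConj x a ↔ x = a := by
      refine ⟨fun h => ?_, fun h => h ▸ IsConj.refl _⟩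
      obtain ⟨c, hc⟩ := isConj_iff.mp h
      rw [← hc, D.comm c, mul_inv_cancel_right]
    have hc : Nat.card (Subgroup.centralizer ({x} : Set T)) = 4 * o := by
      rw [show Subgroup.centralizer ({x} : Set T) = ⊤ from eq_top_iff.mpr fun b _ =>
        Subgroup.mem_centralizer_singleton_iff.mpr (D.comm b x), Subgroup.card_top, D.card]
    by_cases h : x = a
    · rw [if_pos h, if_pos (hiff.2 h), hc]; push_cast; ring
    · rw [if_neg h, if_neg (fun h' => h (hiff.1 h'))]
  have h1 := hcol 1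
  have h2 := hcol z
  have e : ∀ ν : IrrCharacter T, (if (ν : T → ℂ) z = ε then (ν : T → ℂ) x else 0) =
      ((ν : T → ℂ) x * conj ((ν : T → ℂ) 1) + ε * ((ν : T → ℂ) x * conj ((ν : T → ℂ) z))) / 2 := by
    intro ν
    rcases D.apply_sign ν D.z_sq with h | h <;> rcases hε with rfl | rfl <;>
      rw [h, D.apply_one] <;> norm_num <;> ring
  unfold signChars
  rw [Finset.sum_filter, Finset.sum_congr rfl fun ν _ => e ν, ← Finset.sum_div, Finset.sum_add_distrib,
    ← Finset.mul_sum, h1, h2]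
  split_ifs <;> ring

theorem card_signChars (ε : ℂ) (hε : ε = 1 ∨ ε = -1) : (D.signChars ε).card = 2 * o := by
  have := D.sum_signChars ε hε 1
  simp only [D.apply_one, Finset.sum_const, nsmul_eq_mul, mul_one, if_true, D.z_ne.symm, if_false,
    mul_zero, add_zero] at this
  exact_mod_cast this

theorem sum_signChars_t (ε : ℂ) (hε : ε = 1 ∨ ε = -1) : ∑ ν ∈ D.signChars ε, (ν : T → ℂ) t = 0 := by
  rw [D.sum_signChars ε hε t, if_neg D.t_ne, if_neg D.tz_ne, mul_zero, add_zero]

/-- Trivial on the odd part. -/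
def IsTrivOdd (ν : IrrCharacter T) : Prop := ∀ y ∈ D.oddSub, (ν : T → ℂ) y = 1

/-- Two characters with the same values at `z`, `t` and on the odd part are equal. -/
theorem ext_of_gen {ν ν' : IrrCharacter T} (hz : (ν : T → ℂ) z = (ν' : T → ℂ) z)
    (ht : (ν : T → ℂ) t = (ν' : T → ℂ) t)
    (ho : ∀ y ∈ D.oddSub, (ν : T → ℂ) y = (ν' : T → ℂ) y) : ν = ν' := by
  refine Subtype.ext (funext fun x => ?_)
  obtain ⟨y, hy, h | h | h | h⟩ := D.gen x <;>
    simp only [h, D.apply_mul, hz, ht, ho y (D.mem_oddSub.2 hy)]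

open scoped Classical in
/-- The average over the odd part is the indicator of triviality. -/
theorem sum_oddSub [Fintype D.oddSub] (ν : IrrCharacter T) :
    ∑ y : D.oddSub, (ν : T → ℂ) (y : T) = if D.IsTrivOdd ν then (o : ℂ) else 0 := by
  split_ifs with h
  · rw [Finset.sum_congr rfl fun (y : D.oddSub) _ => h y y.2, Finset.sum_const, Finset.card_univ,
      ← Nat.card_eq_fintype_card, D.card_oddSub, nsmul_eq_mul, mul_one]
  · simp only [IsTrivOdd, not_forall] at h
    obtain ⟨y0, hy0, hne⟩ := h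
    have e : (ν : T → ℂ) y0 * ∑ y : D.oddSub, (ν : T → ℂ) (y : T) = ∑ y : D.oddSub, (ν : T → ℂ) (y : T) := by
      rw [Finset.mul_sum]
      exact Fintype.sum_equiv (Equiv.mulLeft (⟨y0, hy0⟩ : D.oddSub)) _ _ fun y => by
        simp [D.apply_mul]
    by_contra h0
    exact hne (mul_eq_right₀ h0 |>.1 e)

open scoped Classical in
/-- Exactly two characters of each sign are trivial on the odd part. -/
theorem card_trivOdd (ε : ℂ) (hε : ε = 1 ∨ ε = -1) :
    ((D.signChars ε).filter fun ν => D.IsTrivOdd ν).card = 2 := by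
  letI := Fintype.ofFinite D.oddSub
  have h1 : ∑ ν ∈ D.signChars ε, ∑ y : D.oddSub, (ν : T → ℂ) (y : T) =
      (((D.signChars ε).filter fun ν => D.IsTrivOdd ν).card : ℂ) * o := by
    rw [Finset.sum_congr rfl fun ν _ => D.sum_oddSub ν, ← Finset.sum_filter, Finset.sum_const, nsmul_eq_mul]
  rw [Finset.sum_comm, Finset.sum_congr rfl fun (y : D.oddSub) _ => D.sum_signChars ε hε y] at h1
  have hz : ∀ y : D.oddSub, (y : T) ≠ z := fun y e => by
    have := D.mem_oddSub.1 y.2
    rw [e, D.pow_o_z] at this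
    exact D.z_ne this
  simp only [hz, if_false, mul_zero, add_zero] at h1
  simp only [OneMemClass.coe_eq_one, Finset.sum_ite_eq', Finset.mem_univ, if_true] at h1
  have ho : (o : ℂ) ≠ 0 := Nat.cast_ne_zero.2 (by have := D.three_le; omega)
  exact_mod_cast (mul_right_cancel₀ ho h1).symm

/-- The value at `t` distinguishes the two. -/
theorem trivOdd_inj {ε : ℂ} {ν ν' : IrrCharacter T} (h : ν ∈ D.signChars ε) (h' : ν' ∈ D.signChars ε)
    (ho : D.IsTrivOdd ν) (ho' : D.IsTrivOdd ν') (ht : (ν : T → ℂ) t = (ν' : T → ℂ) t) : ν = ν' :=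
  D.ext_of_gen ((D.mem_signChars.1 h).trans (D.mem_signChars.1 h').symm) ht
    fun y hy => (ho y hy).trans (ho' y hy).symm

/-- A signed sum over a subset is bounded by its size and by the size of the complement. -/
theorem signed_le (ε : ℂ) (hε : ε = 1 ∨ ε = -1) (J : Finset (IrrCharacter T)) (hJ : J ⊆ D.signChars ε) :
    ‖∑ ν ∈ J, (ν : T → ℂ) t‖ ≤ J.card ∧ ‖∑ ν ∈ J, (ν : T → ℂ) t‖ ≤ (2 * o : ℝ) - J.card := by
  classical
  have h1 : ∀ S : Finset (IrrCharacter T), ‖∑ ν ∈ S, (ν : T → ℂ) t‖ ≤ S.card := fun S => by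
    refine (norm_sum_le _ _).trans (le_of_eq ?_)
    have h : ∀ ν ∈ S, ‖(ν : T → ℂ) t‖ = (1 : ℝ) := fun ν _ => by
      rcases D.apply_sign ν D.t_sq with h | h <;> rw [h] <;> simp
    rw [Finset.sum_congr rfl h]
    simp
  refine ⟨h1 J, ?_⟩
  have h2 := D.sum_signChars_t ε hε
  rw [← Finset.sum_sdiff hJ] at h2
  rw [eq_neg_of_add_eq_zero_right h2, norm_neg]
  refine (h1 _).trans (le_of_eq ?_)
  rw [Finset.card_sdiff_of_subset hJ, Nat.cast_sub (Finset.card_le_card hJ), D.card_signChars ε hε]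
  push_cast; ring

end Torus

end Cfsg.Agent.SDKeystone.Minus
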