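import Cfsg.Agent.EqLemmas
import Mathlib.Algebra.Order.Chebyshev

/-!
# Integer vectors of small variance (helper87)

* `energy` : `k Σ m² - (Σ m)²`; `vec_shape` : below `2 k` the vector takes two neighbouring values;
* `shape_cases` : for `k = 6` or `k ≥ 9` at most two entries deviate, except three of six.
-/

set_option autoImplicit false

namespace Cfsg.Agent.SDKeystone.Minus

/-- `k Σ m² - (Σ m)²`. -/
def energy {ι : Type*} [Fintype ι] (m : ι → ℤ) : ℤ :=
  (Fintype.card ι : ℤ) * ∑ i, m i ^ 2 - (∑ i, m i) ^ 2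

variable {ι : Type*} [Fintype ι]

theorem energy_nonneg (m : ι → ℤ) : 0 ≤ energy m :=
  sub_nonneg.2 (sq_sum_le_card_mul_sum_sq (s := Finset.univ) (f := m))

theorem energy_two_values (m : ι → ℤ) (c : ℤ) (J : Finset ι) [DecidableEq ι]
    (h : ∀ i, m i = c + if i ∈ J then 1 else 0) :
    energy m = (J.card : ℤ) * ((Fintype.card ι : ℤ) - J.card) := by
  have h1 : ∑ i, m i = (Fintype.card ι : ℤ) * c + J.card := by
    simp only [h, Finset.sum_add_distrib, Finset.sum_const, Finset.card_univ, nsmul_eq_mul,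
      Finset.sum_ite_mem, Finset.univ_inter]
    ring
  have h2 : ∑ i, m i ^ 2 = (Fintype.card ι : ℤ) * c ^ 2 + (J.card : ℤ) * (2 * c + 1) := by
    rw [Finset.sum_congr rfl fun i _ => show m i ^ 2 = c ^ 2 + if i ∈ J then 2 * c + 1 else 0 by
      rw [h i]; split_ifs <;> ring]
    simp only [Finset.sum_add_distrib, Finset.sum_const, Finset.card_univ, nsmul_eq_mul,
      Finset.sum_ite_mem, Finset.univ_inter]
    ring
  rw [energy, h1, h2]
  ring

/-- Below `2 k` only two neighbouring values occur. -/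
theorem vec_shape [Nonempty ι] [DecidableEq ι] (m : ι → ℤ)
    (h : energy m < 2 * (Fintype.card ι : ℤ)) :
    ∃ (c : ℤ) (J : Finset ι), (∀ i, m i = c + if i ∈ J then 1 else 0) ∧ (∃ i, m i = c) ∧
      (J.card : ℤ) * ((Fintype.card ι : ℤ) - J.card) < 2 * (Fintype.card ι : ℤ) := by
  obtain ⟨a, -, ha⟩ := Finset.exists_min_image (Finset.univ : Finset ι) m Finset.univ_nonempty
  obtain ⟨b, -, hb⟩ := Finset.exists_max_image (Finset.univ : Finset ι) m Finset.univ_nonempty
  have hab : m b ≤ m a + 1 := by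
    by_contra hlt
    push Not at hlt
    have hne : a ≠ b := fun e => by rw [e] at hlt; omega
    set R := (Finset.univ.erase a).erase b with hR
    have hsum : ∀ f : ι → ℤ, ∑ i, f i = f a + (f b + ∑ i ∈ R, f i) := fun f => by
      rw [hR, Finset.add_sum_erase _ _ (Finset.mem_erase.2 ⟨hne.symm, Finset.mem_univ _⟩),
        Finset.add_sum_erase _ _ (Finset.mem_univ _)]
    have hk : (Fintype.card ι : ℤ) = R.card + 2 := by
      have h1 := Finset.card_erase_add_one (Finset.mem_univ a)
      have h2 := Finset.card_erase_add_one (s := Finset.univ.erase a) (Finset.mem_erase.2 ⟨hne.symm, Finset.mem_univ b⟩)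
      rw [← hR] at h2
      rw [Finset.card_univ] at h1
      omega
    have hq := sq_sum_le_card_mul_sum_sq (s := R) (f := m)
    have hrow : (2 * R.card : ℤ) ≤ ∑ i ∈ R, ((m i - m a) ^ 2 + (m i - m b) ^ 2) := by
      rw [mul_comm, ← nsmul_eq_mul]
      refine Finset.card_nsmul_le_sum _ _ _ fun i _ => ?_
      nlinarith [sq_nonneg ((m i - m a) + (m i - m b))]
    have hexp : ∑ i ∈ R, ((m i - m a) ^ 2 + (m i - m b) ^ 2) =
        2 * ∑ i ∈ R, m i ^ 2 - 2 * (m a + m b) * ∑ i ∈ R, m i + (R.card : ℤ) * (m a ^ 2 + m b ^ 2) := by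
      rw [Finset.sum_congr rfl fun i _ => show (m i - m a) ^ 2 + (m i - m b) ^ 2 =
        2 * m i ^ 2 - 2 * (m a + m b) * m i + (m a ^ 2 + m b ^ 2) by ring]
      simp only [Finset.sum_add_distrib, Finset.sum_sub_distrib, ← Finset.mul_sum, Finset.sum_const,
        nsmul_eq_mul]
      try ring
    rw [energy, hsum m, hsum fun i => m i ^ 2, hk] at h
    rw [hexp] at hrow
    have h4 : (4 : ℤ) ≤ (m b - m a) ^ 2 := by
      have : (2 : ℤ) ≤ m b - m a := by omega
      nlinarith
    linarith
  refine ⟨m a, Finset.univ.filter fun i => m i ≠ m a, ?_, ⟨a, rfl⟩, ?_⟩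
  · intro i
    have h1 := ha i (Finset.mem_univ _)
    have h2 := hb i (Finset.mem_univ _)
    by_cases he : m i = m a
    · simp [he]
    · simp only [Finset.mem_filter, Finset.mem_univ, true_and, ne_eq, he, not_false_eq_true, if_true]
      omega
  · refine lt_of_eq_of_lt (energy_two_values m (m a) _ fun i => ?_).symm h
    have h1 := ha i (Finset.mem_univ _)
    have h2 := hb i (Finset.mem_univ _)
    by_cases he : m i = m a
    · simp [he]
    · simp only [Finset.mem_filter, Finset.mem_univ, true_and, ne_eq, he, not_false_eq_true, if_true]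
      omega

/-- The possible numbers of deviations. -/
theorem shape_cases {k j : ℕ} (hk : k = 6 ∨ 9 ≤ k) (hj : j ≤ k)
    (h : (j : ℤ) * ((k : ℤ) - j) < 2 * (k : ℤ)) : j ≤ 2 ∨ k ≤ j + 2 ∨ (k = 6 ∧ j = 3) := by
  by_contra hno
  push Not at hno
  obtain ⟨h1, h2, h3⟩ := hno
  rcases hk with rfl | hk
  · exact h3 rfl (by omega)
  · have : (3 : ℤ) ≤ j := by omega
    have : (3 : ℤ) ≤ (k : ℤ) - j := by omega
    nlinarith

end Cfsg.Agent.SDKeystone.Minus
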